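import Groth.Agent.AbSch.K630.Dens

/-!
# Schematically dominant morphisms and relative normalization

* `hom_ext_of_dom`, `Dat.r_inj_of_dom`: morphisms to separated schemes and sections of extensions are determined on
  schematically dominant morphisms;
* `dom_whisker`: base change of schematically dominant quasi-compact morphisms along flat morphisms;
* `nrm G`: the relative normalization of `S` in `G ⟶ S`; `exists_lift_nrm`: for `Y` smooth over `S` sections of integral
  morphisms over `G ⊗ Y` extend to `nrm G ⊗ Y`.
-/

set_option autoImplicit false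
universe u
open CategoryTheory CategoryTheory.Limits MonoidalCategory CartesianMonoidalCategory MonObj AlgebraicGeometry Opposite

noncomputable section

namespace K630.AbExt

open Groth.Agent.Etdl.H432.Sec K452.HomPts K771.HomEv

variable {S : Scheme.{u}}

/-- Morphisms to separated schemes are determined on schematically dominant morphisms. -/
theorem hom_ext_of_dom {W' W Z : Over S} (k : W' ⟶ W) [IsSchemeTheoreticallyDominant k.left] [IsSeparated Z.hom]
    {a b : W ⟶ Z} (h : k ≫ a = k ≫ b) : a = b := by
  have hcl : IsClosedImmersion (equalizer.ι a b).left := inferInstance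
  have h1 : (equalizer.lift k h).left ≫ (equalizer.ι a b).left = k.left := by
    rw [← Over.comp_left, equalizer.lift_ι]
  have h2 : (equalizer.ι a b).left.ker = ⊥ := by
    have h3 : ((equalizer.lift k h).left ≫ (equalizer.ι a b).left).ker = ⊥ := by
      rw [h1]
      exact Scheme.Hom.ker_eq_bot _
    rw [← le_bot_iff, ← h3]
    exact Scheme.Hom.le_ker_comp _ _
  have h4 : IsIso (equalizer.ι a b).left := (IsClosedImmersion.isIso_iff_ker_eq_bot (f := (equalizer.ι a b).left)).mpr h2
  have h5 : (equalizer.ι a b).left ≫ a.left = (equalizer.ι a b).left ≫ b.left := by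
    rw [← Over.comp_left, equalizer.condition, Over.comp_left]
  apply Over.OverMorphism.ext
  rwa [cancel_epi] at h5

/-- Base change of a schematically dominant morphism along a flat one. -/
theorem dom_whisker {V' V : Over S} (k : V' ⟶ V) [IsSchemeTheoreticallyDominant k.left] [QuasiCompact k.left]
    (W : Over S) [Flat W.hom] : IsSchemeTheoreticallyDominant (W ◁ k).left ∧ QuasiCompact (W ◁ k).left := by
  have hpb : IsPullback (W ◁ k) (snd W V') (snd W V) k := by
    refine IsPullback.of_isLimit (PullbackCone.IsLimit.mk (by rw [whiskerLeft_snd])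
      (fun s => lift (s.fst ≫ fst W V) s.snd) (fun s => ?_) (fun s => ?_) (fun s m h1 h2 => ?_))
    · apply CartesianMonoidalCategory.hom_ext
      · rw [Category.assoc, whiskerLeft_fst, lift_fst]
      · rw [Category.assoc, whiskerLeft_snd, lift_snd_assoc, s.condition]
    · rw [lift_snd]
    · apply CartesianMonoidalCategory.hom_ext
      · rw [lift_fst, ← h1, Category.assoc, whiskerLeft_fst]
      · rw [lift_snd, ← h2]
  have h1 := hpb.map (Over.forget S)
  have hfl : Flat (snd W V).left := inferInstanceAs (Flat (pullback.snd W.hom V.hom))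
  have hfl' : Flat ((Over.forget S).map (snd W V)) := hfl
  have hd : IsSchemeTheoreticallyDominant ((Over.forget S).map k) := ‹_›
  have hq : QuasiCompact ((Over.forget S).map k) := ‹_›
  exact ⟨@IsSchemeTheoreticallyDominant.of_isPullback _ _ _ _ _ _ _ _ h1.flip hd hq hfl',
    MorphismProperty.of_isPullback h1.flip hq⟩

/-- The projection from a product with a schematically dominant quasi-compact `G ⟶ S`. -/
theorem dom_snd (G : Over S) [IsSchemeTheoreticallyDominant G.hom] [QuasiCompact G.hom] (W : Over S) [Flat W.hom] :
    IsSchemeTheoreticallyDominant (snd G W).left ∧ QuasiCompact (snd G W).left :=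
  ⟨inferInstanceAs (IsSchemeTheoreticallyDominant (pullback.snd G.hom W.hom)),
    inferInstanceAs (QuasiCompact (pullback.snd G.hom W.hom))⟩

variable {T A : Over S} [GrpObj T] [IsCommMonObj T] [GrpObj A] [IsCommMonObj A]

theorem Dat.r_inj_of_dom (D : Dat T A) [IsSeparated T.hom] [IsSeparated A.hom] {W' W : Over S} (k : W' ⟶ W)
    [IsSchemeTheoreticallyDominant k.left] {e e' : Γs D.E W} (h : r D.E k e = r D.E k e') : e = e' := by
  have h1 : m D.q W (e - e') = 0 := by
    rw [map_sub, sub_eq_zero]
    apply pt_injective
    apply hom_ext_of_dom k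
    rw [← pt_r, ← pt_r, ← m_r, ← m_r, h]
  obtain ⟨a, ha⟩ := D.exists_i _ h1
  have h2 : a = 0 := by
    apply pt_injective
    apply hom_ext_of_dom k
    rw [← pt_r, ← pt_r]
    congr 1
    apply D.i_inj
    rw [m_r, m_r, ha, map_sub, h, sub_self, map_zero, map_zero]
  rw [h2, map_zero] at ha
  exact sub_eq_zero.mp ha.symm

/-! ### relative normalization -/

section Nrm

variable (G : Over S) [QuasiCompact G.hom] [QuasiSeparated G.hom]

/-- The relative normalization. -/
def nrm : Over S := Over.mk G.hom.fromNormalization

/-- The morphism to the relative normalization. -/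
def toNrm : G ⟶ nrm G := Over.homMk G.hom.toNormalization (Scheme.Hom.toNormalization_fromNormalization _)

instance : IsSchemeTheoreticallyDominant (toNrm G).left := ⟨Scheme.Hom.ker_toNormalization _⟩

instance : QuasiCompact (toNrm G).left := inferInstanceAs (QuasiCompact G.hom.toNormalization)

instance : IsIntegralHom (nrm G).hom := inferInstanceAs (IsIntegralHom G.hom.fromNormalization)

/-- Sections of integral morphisms over `G ⊗ Y` extend to `nrm G ⊗ Y`. -/
theorem exists_lift_nrm {Y A B : Over S} [Smooth Y.hom] (g : A ⟶ B) [IsIntegralHom g.left] (c : Y ⟶ B)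
    (b : G ⊗ Y ⟶ A) (h : b ≫ g = snd G Y ≫ c) :
    ∃ b' : nrm G ⊗ Y ⟶ A, b' ≫ g = snd (nrm G) Y ≫ c ∧ (toNrm G ▷ Y) ≫ b' = b := by
  have H : pullback.snd G.hom Y.hom = pullback.lift b.left (snd G Y).left (by
      rw [← Over.comp_left, h, Over.comp_left]) ≫ pullback.snd g.left c.left := by
    rw [pullback.lift_snd]
    rfl
  let d : (pullback.snd G.hom Y.hom).normalization ⟶ pullback g.left c.left :=
    (pullback.snd G.hom Y.hom).normalizationDesc _ (pullback.snd g.left c.left) H
  have hd1 : (pullback.snd G.hom Y.hom).toNormalization ≫ d = pullback.lift b.left (snd G Y).left _ :=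
    Scheme.Hom.toNormalization_normalizationDesc _ _ _ H
  have hd2 : d ≫ pullback.snd g.left c.left = (pullback.snd G.hom Y.hom).fromNormalization :=
    Scheme.Hom.normalizationDesc_comp _ _ _ H
  let n := G.hom.normalizationPullback Y.hom
  have hn : IsIso n := inferInstance
  let β : pullback G.hom.fromNormalization Y.hom ⟶ A.left := inv n ≫ d ≫ pullback.fst g.left c.left
  have hβ1 : β ≫ g.left = pullback.snd G.hom.fromNormalization Y.hom ≫ c.left := by
    simp only [β, Category.assoc]
    rw [pullback.condition, ← Category.assoc d, hd2, IsIso.inv_comp_eq, ← Category.assoc,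
      Scheme.Hom.normalizationPullback_snd]
  have hβ2 : pullback.map _ _ _ _ G.hom.toNormalization (𝟙 _) (𝟙 _) (by simp) (by simp) ≫ β = b.left := by
    have h1 : pullback.map _ _ _ _ G.hom.toNormalization (𝟙 _) (𝟙 _) (by simp) (by simp) =
        (pullback.snd G.hom Y.hom).toNormalization ≫ n := by
      apply pullback.hom_ext
      · rw [Category.assoc]
        refine (pullback.lift_fst _ _ _).trans ?_
        exact (Scheme.Hom.toNormalization_normalizationPullback_fst _ _).symm
      · rw [Category.assoc]
        refine (pullback.lift_snd _ _ _).trans ?_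
        have e1 : n ≫ pullback.snd G.hom.fromNormalization Y.hom = (pullback.snd G.hom Y.hom).fromNormalization :=
          Scheme.Hom.normalizationPullback_snd _ _
        rw [e1]
        rw [Category.comp_id]
        exact (Scheme.Hom.toNormalization_fromNormalization _).symm
    rw [h1]
    simp only [β, Category.assoc, IsIso.hom_inv_id_assoc]
    rw [← Category.assoc, hd1, pullback.lift_fst]
  have hw : β ≫ A.hom = (nrm G ⊗ Y).hom := by
    have h1 : A.hom = g.left ≫ B.hom := (Over.w g).symm
    rw [h1, ← Category.assoc, hβ1, Category.assoc, Over.w c]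
    exact (Over.w (snd (nrm G) Y))
  refine ⟨Over.homMk β hw, Over.OverMorphism.ext hβ1, Over.OverMorphism.ext ?_⟩
  rw [← hβ2]
  rfl

end Nrm

end K630.AbExt
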