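import Groth.Agent.AbSch.K630.Dens

/-!
# fpqc descent of `n`-splittings

* `Dat.r_inj_of_flat`: sections of an extension inject along flat surjective morphisms;
* `exists_desc`: descent of morphisms to an `S`-scheme along a flat surjective quasi-compact morphism;
* `Dat.ns_of_fpqc`: an `n`-splitting over `V'` gives one over `V`, `V' ⟶ V` flat surjective quasi-compact.
-/

set_option autoImplicit false
universe u
open CategoryTheory CategoryTheory.Limits MonoidalCategory CartesianMonoidalCategory MonObj AlgebraicGeometry Opposite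

noncomputable section

namespace K630.AbExt

open Groth.Agent.Etdl.H432.Sec K452.HomPts K771.HomEv

variable {S : Scheme.{u}}

/-- Descent of morphisms along fpqc morphisms in `Over S`. -/
theorem exists_desc {X' X Z : Over S} (c : X' ⟶ X) [Flat c.left] [Surjective c.left] [QuasiCompact c.left]
    (a : X' ⟶ Z) (h : ∀ {W : Over S} (x y : W ⟶ X'), x ≫ c = y ≫ c → x ≫ a = y ≫ a) :
    ∃ b : X ⟶ Z, c ≫ b = a := by
  have he : EffectiveEpi c.left := inferInstance
  have h' : ∀ {W : Scheme.{u}} (x y : W ⟶ X'.left), x ≫ c.left = y ≫ c.left → x ≫ a.left = y ≫ a.left := by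
    intro W x y hxy
    let W' : Over S := Over.mk (x ≫ X'.hom)
    have hy : y ≫ X'.hom = x ≫ X'.hom := by
      rw [← Over.w c, ← Category.assoc, ← hxy, Category.assoc]
    exact congrArg (fun t => t.left) (h (W := W') (Over.homMk x) (Over.homMk y hy) (Over.OverMorphism.ext hxy))
  have hfac : c.left ≫ EffectiveEpi.desc c.left a.left h' = a.left := EffectiveEpi.fac c.left a.left h'
  refine ⟨Over.homMk (EffectiveEpi.desc c.left a.left h') ?_, Over.OverMorphism.ext hfac⟩
  have : Epi c.left := inferInstance
  rw [← cancel_epi c.left, ← Category.assoc, hfac, Over.w, Over.w]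

/-- The two morphisms agree if they agree after a flat surjective morphism. -/
theorem hom_ext_of_flat {W W' Z : Over S} (c : W' ⟶ W) [Flat c.left] [Surjective c.left] {a b : W ⟶ Z}
    (h : c ≫ a = c ≫ b) : a = b := by
  have : Epi c.left := Flat.epi_of_flat_of_surjective _
  apply Over.OverMorphism.ext
  rw [← cancel_epi c.left]
  exact congrArg (fun t => t.left) h

variable {T A : Over S} [GrpObj T] [IsCommMonObj T] [GrpObj A] [IsCommMonObj A]

namespace Dat

variable {D : Dat T A}

/-- Sections of the extension inject along flat surjective morphisms. -/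
theorem r_inj_of_flat {W W' : Over S} (c : W' ⟶ W) [Flat c.left] [Surjective c.left] {e e' : Γs D.E W}
    (h : r D.E c e = r D.E c e') : e = e' := by
  have h1 : m D.q W (e - e') = 0 := by
    rw [map_sub, sub_eq_zero]
    apply pt_injective
    apply hom_ext_of_flat c
    rw [← pt_r, ← pt_r, ← m_r, ← m_r, h]
  obtain ⟨a, ha⟩ := D.exists_i _ h1
  have h2 : a = 0 := by
    apply pt_injective
    apply hom_ext_of_flat c
    rw [← pt_r, ← pt_r]
    congr 1
    apply D.i_inj
    rw [m_r, m_r, ha, map_sub, h, sub_self, map_zero, map_zero]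
  rw [h2, map_zero] at ha
  exact sub_eq_zero.mp ha.symm

lemma flat_of_isPullback {P X Y Z : Over S} {a : P ⟶ X} {b : P ⟶ Y} {f : X ⟶ Z} {g : Y ⟶ Z}
    (h : IsPullback a b f g) [hg : Flat g.left] : Flat a.left :=
  MorphismProperty.of_isPullback (P := @Flat) (h.map (Over.forget S)).flip hg

lemma surjective_of_isPullback {P X Y Z : Over S} {a : P ⟶ X} {b : P ⟶ Y} {f : X ⟶ Z} {g : Y ⟶ Z}
    (h : IsPullback a b f g) [hg : Surjective g.left] : Surjective a.left :=
  MorphismProperty.of_isPullback (P := @Surjective) (h.map (Over.forget S)).flip hg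

/-- fpqc descent of `n`-splittings. -/
theorem ns_of_fpqc (hT : Red.IsTorus T) [IsProper A.hom] {X : Over S} (p : X ⟶ T) [Flat p.left]
    [LocallyOfFinitePresentation p.left] [Surjective p.left] (e : Γs D.E X) (he : m D.q X e = sec p) {n : ℕ}
    {V V' : Over S} (k : V' ⟶ V) [Flat k.left] [Surjective k.left] [QuasiCompact k.left] (h : D.NS n V') :
    D.NS n V := by
  obtain ⟨τ, hτ⟩ := h
  -- `τ` only depends on the image in `V`
  have hdep : ∀ {W : Over S} (v w : W ⟶ V') (t : W ⟶ T), v ≫ k = w ≫ k → ev τ v (sec t) = ev τ w (sec t) := by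
    intro W v w t hvw
    have h1 : r D.H v τ = r D.H w τ := (hτ.restrict v).unique hT (hτ.restrict w)
    have h2 : ev (r D.H v τ) (𝟙 W) (sec t) = ev (r D.H w τ) (𝟙 W) (sec t) := by rw [h1]
    rwa [ev_r, ev_r, Category.id_comp, Category.id_comp] at h2
  have h1 : m D.q (X ⊗ V') (n • r D.E (fst X V') e - ev τ (snd X V') (sec (fst X V' ≫ p))) = 0 := by
    rw [map_sub, map_nsmul, m_r, he, hτ, r_sec, sub_self]
  obtain ⟨a', ha'⟩ := D.exists_i _ h1
  -- value of `a'`
  have hval : ∀ {W : Over S} (y : W ⟶ X ⊗ V'), m D.i W (sec (y ≫ pt a')) =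
      n • r D.E (y ≫ fst X V') e - ev τ (y ≫ snd X V') (sec (y ≫ fst X V' ≫ p)) := by
    intro W y
    rw [← pt_r, sec_pt, m_r, ha', map_sub, map_nsmul, r_r, ev_r', r_sec]
  have hpb : ∀ {W : Over S} (v : W ⟶ V), ∃ (W' : Over S) (c : W' ⟶ W) (v' : W' ⟶ V'), Flat c.left ∧
      Surjective c.left ∧ v' ≫ k = c ≫ v := by
    intro W v
    have hp := IsPullback.of_hasPullback v k
    exact ⟨pullback v k, pullback.fst _ _, pullback.snd _ _, flat_of_isPullback hp, surjective_of_isPullback hp,
      pullback.condition.symm⟩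
  -- descent of `a'`
  let c : X ⊗ V' ⟶ X ⊗ V := X ◁ k
  have hpc : IsPullback c (snd X V') (snd X V) k := by
    refine IsPullback.of_isLimit (PullbackCone.IsLimit.mk (by rw [whiskerLeft_snd])
      (fun s => lift (s.fst ≫ fst X V) s.snd) (fun s => ?_) (fun s => ?_) (fun s m h1 h2 => ?_))
    · apply CartesianMonoidalCategory.hom_ext
      · rw [Category.assoc, whiskerLeft_fst, lift_fst]
      · rw [Category.assoc, whiskerLeft_snd, lift_snd_assoc, s.condition]
    · rw [lift_snd]
    · apply CartesianMonoidalCategory.hom_ext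
      · rw [lift_fst, ← h1, Category.assoc, whiskerLeft_fst]
      · rw [lift_snd, ← h2]
  have hc1 : Flat c.left := flat_of_isPullback hpc
  have hc2 : Surjective c.left := surjective_of_isPullback hpc
  have hc3 : QuasiCompact c.left :=
    MorphismProperty.of_isPullback (P := @QuasiCompact) (hpc.map (Over.forget S)).flip ‹QuasiCompact k.left›
  obtain ⟨a, ha⟩ := exists_desc c (pt a') (fun {W} x y hxy => by
    have e1 : x ≫ fst X V' = y ≫ fst X V' := by
      have := congrArg (· ≫ fst X V) hxy
      simpa only [Category.assoc, c, whiskerLeft_fst] using this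
    have e2 : (x ≫ snd X V') ≫ k = (y ≫ snd X V') ≫ k := by
      have := congrArg (· ≫ snd X V) hxy
      simpa only [Category.assoc, c, whiskerLeft_snd] using this
    apply sec_inj
    apply D.i_inj
    rw [hval, hval, e1, hdep _ _ _ e2, ← Category.assoc x, e1, Category.assoc])
  -- the section over `X ⊗ V`
  let s : Γs D.E (X ⊗ V) := n • r D.E (fst X V) e - m D.i _ (sec a)
  have hs : ∀ {W : Over S} (y : W ⟶ X ⊗ V'), r D.E (y ≫ c) s = ev τ (y ≫ snd X V') (sec (y ≫ fst X V' ≫ p)) := by
    intro W y
    rw [map_sub, map_nsmul, r_r, ← m_r, r_sec, Category.assoc, Category.assoc, ha, hval]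
    simp only [c, whiskerLeft_fst]
    abel
  have hg : Cov (p ▷ V) := by
    have hpg : IsPullback (p ▷ V) (fst X V) (fst T V) p := by
      refine IsPullback.of_isLimit (PullbackCone.IsLimit.mk (by rw [whiskerRight_fst])
        (fun s => lift s.snd (s.fst ≫ snd T V)) (fun s => ?_) (fun s => ?_) (fun s m h1 h2 => ?_))
      · apply CartesianMonoidalCategory.hom_ext
        · rw [Category.assoc, whiskerRight_fst, lift_fst_assoc, s.condition]
        · rw [Category.assoc, whiskerRight_snd, lift_snd]
      · rw [lift_fst]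
      · apply CartesianMonoidalCategory.hom_ext
        · rw [lift_fst, ← h2]
        · rw [lift_snd, ← h1, Category.assoc, whiskerRight_snd]
    have g1 : Flat (p ▷ V).left := flat_of_isPullback hpg
    have g2 : Surjective (p ▷ V).left := surjective_of_isPullback hpg
    have g3 : LocallyOfFinitePresentation (p ▷ V).left :=
      MorphismProperty.of_isPullback (P := @LocallyOfFinitePresentation) (hpg.map (Over.forget S)).flip
        ‹LocallyOfFinitePresentation p.left›
    exact cov_of _
  obtain ⟨σ, hσ, -⟩ := exists_of_add (D := D) (n := n) (p ▷ V) hg s (by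
      rw [map_sub, map_nsmul, m_r, he, q_i, sub_zero, r_sec, whiskerRight_fst]) (fun W x y z hxz hyz hxyz => by
    simp only [whiskerRight_fst, whiskerRight_snd] at hxz hyz hxyz
    obtain ⟨W', c', v', h1, h2, h3⟩ := hpb (z ≫ snd X V)
    have hl : ∀ (x : W ⟶ X ⊗ V), x ≫ snd X V = z ≫ snd X V → r D.E c' (r D.E x s) =
        ev τ v' (sec (c' ≫ x ≫ fst X V ≫ p)) := by
      intro x hx
      have h4 : c' ≫ x = lift (c' ≫ x ≫ fst X V) v' ≫ c := by
        apply CartesianMonoidalCategory.hom_ext
        · simp only [Category.assoc, c, whiskerLeft_fst, lift_fst]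
        · simp only [Category.assoc, c, whiskerLeft_snd, lift_snd_assoc, h3, hx]
      rw [r_r, h4, hs, lift_snd, lift_fst_assoc]
      simp only [Category.assoc]
    apply r_inj_of_flat c'
    rw [map_add, hl x hxz, hl y hyz, hl z rfl, ← map_add, ← sec_mul, ← MonObj.comp_mul, hxyz])
  exact ⟨σ, hσ⟩

end Dat

end K630.AbExt
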