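import Groth.Agent.AbSch.K630.Dens
import Groth.Agent.EtCoh.K720.Kummer
import Groth.Agent.Sga3.H800.LocRigid
import Groth.Agent.Sga3B.BorSpan613

/-!
# From the closed point of a local base to the whole base

`R` a local ring, `A` a commutative `R`-group locally of finite type, `D` an extension of `𝔾_m` by `A`.
* `Dat.ns_of_special`: if there is an `m`-splitting over `R`, `n ∣ m`, and an `n`-splitting over the closed point,
  then there is an `n`-splitting over `R`.
-/

set_option autoImplicit false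
universe u
open CategoryTheory CategoryTheory.Limits MonoidalCategory CartesianMonoidalCategory MonObj AlgebraicGeometry Opposite

noncomputable section

namespace K630.AbExt

open Groth.Agent.Etdl.H432.Sec K452.HomPts K771.HomEv

section

variable {S : Scheme.{u}}

/-- `χ_n` is the `n`-th power. -/
lemma comp_chi (n : ℕ) {W : Over S} (x : W ⟶ Red.Gm S) : x ≫ Red.chi S (n : ℤ) = x ^ n := by
  apply K720.Kummer.dsChar_injective
  have h1 : Groth.Agent.Sga3B.DSPts.dsChar (x ≫ Red.chi S (n : ℤ)) =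
      (Groth.Agent.Sga3B.DSPts.dsChar x).comp (AddMonoidHom.toMultiplicative (zmultiplesHom ℤ (n : ℤ))) :=
    Groth.Agent.Sga3B.DSPts.dsChar_DSmap _ _
  have h2 : ∀ k : ℕ, Groth.Agent.Sga3B.DSPts.dsChar (x ^ k) = (Groth.Agent.Sga3B.DSPts.dsChar x) ^ k := by
    intro k
    induction k with
    | zero => rw [pow_zero, pow_zero, K720.Kummer.dsChar_one]
    | succ k ih => rw [pow_succ, pow_succ, Groth.Agent.Sga3B.DSPts.dsChar_mul, ih]
  rw [h1, h2]
  refine MonoidHom.ext fun a => ?_
  rw [MonoidHom.comp_apply, MonoidHom.pow_apply, ← map_pow]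
  congr 1
  apply Multiplicative.toAdd.injective
  change a.toAdd • (n : ℤ) = n • a.toAdd
  simp [mul_comm]

lemma exists_root {d : ℕ} {W : Over S} (x y : W ⟶ Red.Gm S) (h : x ^ d = y ^ d) :
    ∃ z : W ⟶ Red.DS S (ZMod d), x * (z ≫ Red.DSmap S (Int.castAddHom (ZMod d))) = y := by
  have hp := K720.Kummer.isPullback (S := S) d
  rw [← comp_chi, ← comp_chi] at h
  refine ⟨hp.lift x y h ≫ snd _ _, ?_⟩
  have h1 := hp.lift_snd x y h
  have h2 : hp.lift x y h = lift x (hp.lift x y h ≫ snd _ _) := by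
    apply CartesianMonoidalCategory.hom_ext
    · rw [lift_fst, hp.lift_fst]
    · rw [lift_snd]
  rw [h2] at h1
  rw [← Category.assoc, lift_whiskerLeft] at h1
  rw [Hom.mul_def]
  exact h1

lemma pow_torsion {d : ℕ} {W : Over S} (z : W ⟶ Red.DS S (ZMod d)) :
    (z ≫ Red.DSmap S (Int.castAddHom (ZMod d))) ^ d = 1 := by
  rw [← comp_chi, Category.assoc, K720.Kummer.comp_eq_one, MonObj.comp_one]

end

variable {R : Type u} [CommRing R] [IsLocalRing R] {A : Over (Spec (CommRingCat.of R))}
  [GrpObj A] [IsCommMonObj A]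

/-- The closed point. -/
abbrev spc (R : Type u) [CommRing R] [IsLocalRing R] : Over (Spec (CommRingCat.of R)) :=
  Over.mk (Spec.map (CommRingCat.ofHom (Ideal.Quotient.mk (IsLocalRing.maximalIdeal R))))

theorem Dat.ns_of_special [IsProper A.hom] (D : Dat (Red.Gm (Spec (CommRingCat.of R))) A) {n d : ℕ} (hd : 0 < d)
    (hm : D.NS (n * d) (𝟙_ _)) (hn : D.NS n (spc R)) : D.NS n (𝟙_ _) := by
  obtain ⟨τ, hτ⟩ := hm
  obtain ⟨τ', hτ'⟩ := hn
  have hT : Red.IsTorus (Red.Gm (Spec (CommRingCat.of R))) := Groth.Agent.Sga3B.BorSpan613.isTorus_Gm _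
  have : NeZero d := ⟨hd.ne'⟩
  have hfin : Finite (ZMod d) := inferInstance
  have hfg : AddGroup.FG (ZMod d) := AddGroup.fg_of_finite
  -- the restriction of `τ` to the closed point
  have h0 : r D.H (toUnit (spc R)) τ = d • τ' := by
    refine (hτ.restrict (toUnit (spc R))).unique hT ?_
    rw [mul_comm]
    exact hτ'.mul d
  -- the homomorphism on `μ_d`
  let j := Red.DSmap (Spec (CommRingCat.of R)) (Int.castAddHom (ZMod d))
  have hj : IsMonHom j := K720.Kummer.isMonHom_DSmap _ _
  have key : ∀ (W : Over (Spec (CommRingCat.of R))) (z : W ⟶ Red.DS _ (ZMod d)),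
      m D.q W (ev τ (toUnit W) (sec (z ≫ j))) = 0 := by
    intro W z
    rw [hτ, mul_smul, ← sec_pow, pow_torsion, sec_one, smul_zero]
  obtain ⟨δ, hδ⟩ := D.exists_i _ (key _ (𝟙 _))
  have hδ' : ∀ (W : Over (Spec (CommRingCat.of R))) (z : W ⟶ Red.DS _ (ZMod d)),
      m D.i W (sec (z ≫ pt δ)) = ev τ (toUnit W) (sec (z ≫ j)) := by
    intro W z
    rw [← pt_r, sec_pt, m_r, hδ, ev_r', r_sec, Category.id_comp]
    congr 2
    exact toUnit_unique _ _
  have hhom : IsMonHom (pt δ) := by
    refine isMonHom_of_points _ fun Y a b => ?_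
    apply sec_inj
    apply D.i_inj
    rw [hδ', sec_mul, map_add, hδ', hδ', ← map_add, ← sec_mul]
    congr 2
    exact K720.Kummer.mul_DSmap _ a b
  have h1 : pt δ = 1 := by
    refine Groth.Agent.Sga3.H800.LocRigid.eq_one (pt δ) (fun T t q => ?_)
    apply sec_inj (G := A)
    apply D.i_inj
    rw [hδ', sec_one, map_zero]
    have h2 : ev τ (toUnit T) (sec (q ≫ j)) = ev (r D.H (toUnit (spc R)) τ) t (sec (q ≫ j)) := by
      rw [ev_r]
      congr 2
      exact toUnit_unique _ _
    rw [h2, h0, ev_smul, ← map_nsmul, ← sec_pow, pow_torsion, sec_one, map_zero]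
  have h2 : ∀ (W : Over (Spec (CommRingCat.of R))) (z : W ⟶ Red.DS _ (ZMod d)),
      ev τ (toUnit W) (sec (z ≫ j)) = 0 := by
    intro W z
    rw [← hδ', h1, MonObj.comp_one, sec_one, map_zero]
  -- division by `d`
  let c := Red.chi (Spec (CommRingCat.of R)) (d : ℤ)
  have hc1 : Flat c.left := K720.Kummer.flat_chi d hd
  have hc2 : Surjective c.left := K720.Kummer.surjective_chi d hd
  have hc3 : LocallyOfFinitePresentation c.left := K720.Kummer.locallyOfFinitePresentation_chi d
  obtain ⟨σ, hσ, -⟩ := ns_of_cover (D := D) c (cov_of c) (n := n) (ev τ (toUnit _) (sec (𝟙 _))) (by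
      rw [hτ, ← Category.id_comp c, comp_chi, sec_pow, mul_smul]) (fun {W} x y z hxyz => by
      have h4 : x ^ d * y ^ d = (x * y) ^ d := by
        apply sec_inj
        rw [sec_mul, sec_pow, sec_pow, sec_pow, sec_mul, smul_add]
      rw [comp_chi, comp_chi, comp_chi, h4] at hxyz
      obtain ⟨ζ, hζ⟩ := exists_root _ _ hxyz
      have h3 : ∀ x : W ⟶ Red.Gm (Spec (CommRingCat.of R)), r D.E x (ev τ (toUnit _) (sec (𝟙 _))) =
          ev τ (toUnit W) (sec x) := by
        intro x
        rw [ev_r', r_sec, Category.comp_id]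
        congr 2
        exact toUnit_unique _ _
      rw [h3, h3, h3, ← hζ, sec_mul, sec_mul, map_add, map_add, h2, add_zero])
  exact ⟨σ, hσ⟩

end K630.AbExt
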