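import Groth.Agent.AbSch.K452.HomPts
import Groth.Agent.AbSch.K453.HomVanish

/-!
# Extensions of a torus by an abelian scheme on the big fppf site, `n`-splittings

`S : Scheme`, `T A : Over S` commutative group schemes.
* `Dat T A`: an extension `0 → pts A → E → pts T → 0` of abelian fppf sheaves;
* `Dat.IsNS n τ`: `τ : T|_V → E|_V` is an `n`-splitting over `V`: `q τ = n`;  `Dat.NS n V`: there is one;
* `IsNS.unique`, `NS.of_cov`, `NS.mono`, `NS.mul`;
* `exists_of_sec`, `exists_of_add`: construction from sections of `E`.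
-/

set_option autoImplicit false
universe u
open CategoryTheory CategoryTheory.Limits MonoidalCategory CartesianMonoidalCategory MonObj AlgebraicGeometry Opposite

noncomputable section

namespace K630.AbExt

open Groth.Agent.Etdl.H432.Sec K452.HomPts K771.HomEv

variable {S : Scheme.{u}}

/-- An extension of the sheaf of points of `T` by the sheaf of points of `A`. -/
structure Dat (T A : Over S) [GrpObj T] [IsCommMonObj T] [GrpObj A] [IsCommMonObj A] where
  E : EtFppf.AbF S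
  i : P A ⟶ E
  q : E ⟶ P T
  w : i ≫ q = 0
  ex : (ShortComplex.mk i q w).ShortExact

variable {T A : Over S} [GrpObj T] [IsCommMonObj T] [GrpObj A] [IsCommMonObj A] (D : Dat T A)

namespace Dat

instance : Mono D.i := D.ex.mono_f

instance : Epi D.q := D.ex.epi_g

theorem i_inj {W : Over S} {a b : Γs (P A) W} (h : m D.i W a = m D.i W b) : a = b :=
  K453.SheafEx.mono_app D.i (op W) h

theorem q_i {W : Over S} (a : Γs (P A) W) : m D.q W (m D.i W a) = 0 := by
  rw [← m_comp, D.w, m_zero]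

theorem exists_i {W : Over S} (e : Γs D.E W) (h : m D.q W e = 0) : ∃ a, m D.i W a = e :=
  K453.SheafEx.exists_section D.ex.exact (U := op W) e h

theorem exists_lift {W : Over S} (t : Γs (P T) W) (x : W.left) :
    ∃ (V : Over S) (g : V ⟶ W) (s : Γs D.E V), Flat g.left ∧ LocallyOfFinitePresentation g.left ∧
      x ∈ Set.range g.left ∧ m D.q V s = r (P T) g t :=
  Groth.Agent.Etdl.H432.Sec.exists_lift D.q t x

/-- The sheaf of morphisms from `T` to the extension. -/
abbrev H : EtFppf.AbF S := hom (P T) D.E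

/-- `τ` is an `n`-splitting over `V`. -/
def IsNS (n : ℕ) {V : Over S} (τ : Γs D.H V) : Prop :=
  ∀ (W : Over S) (h : W ⟶ V) (t : W ⟶ T), m D.q W (ev τ h (sec t)) = n • (sec t)

/-- There is an `n`-splitting over `V`. -/
def NS (n : ℕ) (V : Over S) : Prop := ∃ τ : Γs D.H V, D.IsNS n τ

variable {D}

theorem IsNS.restrict {n : ℕ} {V V' : Over S} {τ : Γs D.H V} (h : D.IsNS n τ) (k : V' ⟶ V) :
    D.IsNS n (r D.H k τ) := fun W g t => by
  rw [ev_r]
  exact h W _ t

theorem NS.restrict {n : ℕ} {V V' : Over S} (h : D.NS n V) (k : V' ⟶ V) : D.NS n V' := by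
  obtain ⟨τ, hτ⟩ := h
  exact ⟨_, hτ.restrict k⟩

theorem ev_smul {V : Over S} (m' : ℕ) (τ : Γs D.H V) {W : Over S} (h : W ⟶ V) (x : Γs (P T) W) :
    ev (m' • τ) h x = m' • ev τ h x := by
  induction m' with
  | zero => rw [zero_smul, zero_smul]; rfl
  | succ k ih => rw [succ_nsmul, succ_nsmul, ev_add, ih]

theorem IsNS.mul {n : ℕ} {V : Over S} {τ : Γs D.H V} (h : D.IsNS n τ) (m' : ℕ) : D.IsNS (m' * n) (m' • τ) :=
  fun W g t => by
    rw [ev_smul, map_nsmul, h W g t, smul_smul]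

theorem NS.mul {n : ℕ} {V : Over S} (h : D.NS n V) (m' : ℕ) : D.NS (m' * n) V := by
  obtain ⟨τ, hτ⟩ := h
  exact ⟨_, hτ.mul m'⟩

theorem NS.of_dvd {n n' : ℕ} {V : Over S} (h : D.NS n V) (hd : n ∣ n') : D.NS n' V := by
  obtain ⟨k, rfl⟩ := hd
  rw [mul_comm]
  exact h.mul k

/-- `n`-splittings are unique. -/
theorem IsNS.unique (hT : Red.IsTorus T) [IsProper A.hom] {n : ℕ} {V : Over S} {τ τ' : Γs D.H V}
    (h : D.IsNS n τ) (h' : D.IsNS n τ') : τ = τ' := by
  have key : ∀ (W : Over S) (g : W ⟶ V) (t : Γs (P T) W), ∃ a : Γs (P A) W, m D.i W a = ev τ g t - ev τ' g t := by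
    intro W g t
    apply D.exists_i
    rw [map_sub]
    have h1 := h W g (pt t)
    have h2 := h' W g (pt t)
    rw [sec_pt] at h1 h2
    rw [h1, h2, sub_self]
  choose a ha using key
  let φ : Γs (hom (P T) (P A)) V := K771.HomEv.mk (fun W g => 
    { toFun := a W g
      map_zero' := by
        apply D.i_inj
        rw [ha, map_zero, map_zero, map_zero, sub_self]
      map_add' := fun x y => by
        apply D.i_inj
        rw [ha, map_add, map_add, map_add, ha, ha]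
        abel }) (fun W W' g k x => by
          apply D.i_inj
          change m D.i W' (r (P A) k (a W g x)) = m D.i W' (a W' (k ≫ g) (r (P T) k x))
          rw [m_r, ha, ha, map_sub, ev_r', ev_r'])
  have hz := K453.HomVanish.isZero_homSh_torus_av Scheme.fppfPrecoverage T A hT
  rw [K453.SheafEx.isZero_iff_sections] at hz
  have hφ : φ = 0 := hz V φ
  refine ev_ext fun W g x => ?_
  have h1 : a W g x = 0 := by
    have : ev φ g x = 0 := by rw [hφ, ev_zero]
    exact this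
  have h2 := ha W g x
  rw [h1, map_zero] at h2
  exact (sub_eq_zero.mp h2.symm)

/-- `n`-splittings glue. -/
theorem NS.of_cov (hT : Red.IsTorus T) [IsProper A.hom] {n : ℕ} {U : Over S} {I : Type*} {V : I → Over S}
    {g : ∀ i, V i ⟶ U} (hc : IsCov g) (h : ∀ i, D.NS n (V i)) : D.NS n U := by
  choose τ hτ using h
  obtain ⟨σ, hσ⟩ := glue D.H hc τ (fun i j Z a b _ => ((hτ i).restrict a).unique hT ((hτ j).restrict b))
  refine ⟨σ, fun W h t => ?_⟩
  apply pt_injective
  have : ∀ x : W.left, ∃ (V' : Over S) (k : V' ⟶ W), Flat k.left ∧ LocallyOfFinitePresentation k.left ∧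
      x ∈ Set.range k.left ∧ r (P T) k (m D.q W (ev σ h (sec t))) = r (P T) k (n • sec t) := by
    intro x
    obtain ⟨i, h1, h2, y, hy⟩ := hc (h.left x)
    obtain ⟨Q, a, b, hab, hpb, hpt⟩ := exists_pb h (g i)
    obtain ⟨z, hz, -⟩ := hpt x y hy.symm
    refine ⟨Q, a, ?_, ?_, ⟨z, hz⟩, ?_⟩
    · exact MorphismProperty.of_isPullback hpb.flip h1
    · exact MorphismProperty.of_isPullback hpb.flip h2
    · rw [← m_r, ev_r', hab, map_nsmul, r_sec]
      have h3 := hσ i
      rw [show ev σ (b ≫ g i) (sec (a ≫ t)) = ev (τ i) b (sec (a ≫ t)) by rw [← ev_r, h3]]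
      exact hτ i Q b (a ≫ t)
  rw [ext_local (P T) _ _ this]

/-! ### Construction of splittings -/

/-- The section of the extension over `T ⊗ V` attached to `τ`. -/
def toSec {V : Over S} (τ : Γs D.H V) : Γs D.E (T ⊗ V) := ev τ (snd T V) (sec (fst T V))

theorem r_toSec {V : Over S} (τ : Γs D.H V) {W : Over S} (t : W ⟶ T) (v : W ⟶ V) :
    r D.E (lift t v) (toSec τ) = ev τ v (sec t) := by
  unfold toSec
  rw [ev_r', lift_snd, r_sec, lift_fst]

theorem toSec_add {V : Over S} (τ : Γs D.H V) {W : Over S} (t t' : W ⟶ T) (v : W ⟶ V) :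
    r D.E (lift t v) (toSec τ) + r D.E (lift t' v) (toSec τ) = r D.E (lift (t * t') v) (toSec τ) := by
  rw [r_toSec, r_toSec, r_toSec, sec_mul, map_add]

theorem q_toSec {n : ℕ} {V : Over S} {τ : Γs D.H V} (h : D.IsNS n τ) :
    m D.q _ (toSec τ) = n • sec (fst T V) := h _ _ _

/-- `n`-splittings from sections over `T ⊗ V`. -/
theorem exists_of_sec {n : ℕ} {V : Over S} (e : Γs D.E (T ⊗ V)) (hq : m D.q _ e = n • sec (fst T V))
    (hadd : ∀ (W : Over S) (t t' : W ⟶ T) (v : W ⟶ V),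
      r D.E (lift t v) e + r D.E (lift t' v) e = r D.E (lift (t * t') v) e) :
    ∃ τ : Γs D.H V, D.IsNS n τ ∧ toSec τ = e := by
  let τ : Γs D.H V := K771.HomEv.mk (F := P T) (G := D.E) (T := V) (fun W g =>
    AddMonoidHom.mk' (fun x => r D.E (lift (pt x) g) e) (fun x y => by
      rw [pt_add]
      exact (hadd W (pt x) (pt y) g).symm)) (fun W W' g k x => by
        change r D.E k (r D.E (lift (pt x) g) e) = r D.E (lift (pt (r (P T) k x)) (k ≫ g)) e
        rw [r_r, comp_lift, pt_r])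
  have hτ : ∀ (W : Over S) (h : W ⟶ V) (t : W ⟶ T), ev τ h (sec t) = r D.E (lift t h) e := fun W h t => rfl
  refine ⟨τ, fun W h t => ?_, ?_⟩
  · rw [hτ, m_r, hq, map_nsmul, r_sec, lift_fst]
  · unfold toSec
    rw [hτ]
    have : lift (fst T V) (snd T V) = 𝟙 _ := CartesianMonoidalCategory.lift_fst_snd
    rw [this, r_id]

/-- A single covering morphism. -/
abbrev Cov {U V : Over S} (g : V ⟶ U) : Prop := IsCov (fun _ : PUnit.{1} => g)

theorem cov_iff {U V : Over S} (g : V ⟶ U) :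
    Cov g ↔ ∀ x : U.left, Flat g.left ∧ LocallyOfFinitePresentation g.left ∧ x ∈ Set.range g.left :=
  ⟨fun h x => by obtain ⟨_, h1⟩ := h x; exact h1, fun h x => ⟨PUnit.unit, h x⟩⟩

theorem cov_of {U V : Over S} (g : V ⟶ U) [Flat g.left] [LocallyOfFinitePresentation g.left]
    [Surjective g.left] : Cov g :=
  fun x => ⟨PUnit.unit, inferInstance, inferInstance, g.left.surjective x⟩

/-- local lifting along a covering morphism -/
theorem Cov.exists_lift {U V : Over S} {g : V ⟶ U} (hg : Cov g) {W : Over S} (t : W ⟶ U) (x : W.left) :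
    ∃ (W' : Over S) (k : W' ⟶ W) (y : W' ⟶ V), Flat k.left ∧ LocallyOfFinitePresentation k.left ∧
      x ∈ Set.range k.left ∧ y ≫ g = k ≫ t := by
  obtain ⟨_, h1, h2, y, hy⟩ := hg (t.left x)
  obtain ⟨Q, a, b, hab, hpb, hpt⟩ := exists_pb t g
  obtain ⟨z, hz, -⟩ := hpt x y hy.symm
  exact ⟨Q, a, b, MorphismProperty.of_isPullback hpb.flip h1, MorphismProperty.of_isPullback hpb.flip h2,
    ⟨z, hz⟩, hab.symm⟩

/-- `n`-splittings from sections over a covering `Z` of `T ⊗ V`. -/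
theorem exists_of_add {n : ℕ} {V Z : Over S} (g : Z ⟶ T ⊗ V) (hg : Cov g) (s : Γs D.E Z)
    (hq : m D.q _ s = n • sec (g ≫ fst T V))
    (hadd : ∀ (W : Over S) (x y z : W ⟶ Z), x ≫ g ≫ snd T V = z ≫ g ≫ snd T V → y ≫ g ≫ snd T V = z ≫ g ≫ snd T V →
      (x ≫ g ≫ fst T V) * (y ≫ g ≫ fst T V) = z ≫ g ≫ fst T V → r D.E x s + r D.E y s = r D.E z s) :
    ∃ τ : Γs D.H V, D.IsNS n τ ∧ ∀ (W : Over S) (z : W ⟶ Z), ev τ (z ≫ g ≫ snd T V) (sec (z ≫ g ≫ fst T V)) =
      r D.E z s := by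
  -- well-definedness
  have hwd : ∀ (W : Over S) (x x' : W ⟶ Z), x ≫ g = x' ≫ g → r D.E x s = r D.E x' s := by
    intro W x x' hxx
    refine ext_local D.E _ _ fun w => ?_
    obtain ⟨W', k, y, h1, h2, h3, h4⟩ := hg.exists_lift (lift (1 : W ⟶ T) (x ≫ g ≫ snd T V)) w
    refine ⟨W', k, h1, h2, h3, ?_⟩
    have e1 : y ≫ g ≫ fst T V = 1 := by
      rw [← Category.assoc, h4, Category.assoc, lift_fst, MonObj.comp_one]
    have e2 : y ≫ g ≫ snd T V = (k ≫ x) ≫ g ≫ snd T V := by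
      rw [← Category.assoc, h4, Category.assoc, lift_snd]
      simp only [Category.assoc]
    have e3 : (k ≫ x) ≫ g = (k ≫ x') ≫ g := by rw [Category.assoc, hxx, Category.assoc]
    have e4 : (k ≫ x) ≫ g ≫ snd T V = (k ≫ x') ≫ g ≫ snd T V := by
      rw [← Category.assoc, e3, Category.assoc]
    have e5 : (k ≫ x) ≫ g ≫ fst T V = (k ≫ x') ≫ g ≫ fst T V := by
      rw [← Category.assoc, e3, Category.assoc]
    have a1 := hadd W' (k ≫ x) y (k ≫ x) rfl e2 (by rw [e1, _root_.mul_one])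
    have a2 := hadd W' (k ≫ x) y (k ≫ x') e4 (e2.trans e4) (by rw [e1, _root_.mul_one, e5])
    rw [r_r, r_r]
    exact a1.symm.trans a2
  obtain ⟨e, he⟩ := glue D.E hg (fun _ => s) (fun _ _ W a b hab => hwd W a b hab)
  have he := he PUnit.unit
  have heq : ∀ (W : Over S) (z : W ⟶ Z), r D.E z s = r D.E (z ≫ g) e := by
    intro W z
    rw [← he, r_r]
  obtain ⟨τ, hτ, hτe⟩ := exists_of_sec (n := n) e (by
    refine sep (P T) hg _ _ fun _ => ?_
    rw [← m_r, he, hq, map_nsmul, r_sec]) (fun W t t' v => by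
    refine ext_local D.E _ _ fun w => ?_
    obtain ⟨W₁, k₁, x, h1, h2, ⟨w₁, h3⟩, h4⟩ := hg.exists_lift (lift t v) w
    obtain ⟨W₂, k₂, y, g1, g2, ⟨w₂, g3⟩, g4⟩ := hg.exists_lift (k₁ ≫ lift t' v) w₁
    obtain ⟨W₃, k₃, z, f1, f2, ⟨w₃, f3⟩, f4⟩ := hg.exists_lift (k₂ ≫ k₁ ≫ lift (t * t') v) w₂
    refine ⟨W₃, k₃ ≫ k₂ ≫ k₁, ?_, ?_, ⟨w₃, ?_⟩, ?_⟩
    · rw [Over.comp_left, Over.comp_left]
      exact MorphismProperty.comp_mem @Flat _ _ f1 (MorphismProperty.comp_mem @Flat _ _ g1 h1)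
    · rw [Over.comp_left, Over.comp_left]
      exact MorphismProperty.comp_mem @LocallyOfFinitePresentation _ _ f2
        (MorphismProperty.comp_mem @LocallyOfFinitePresentation _ _ g2 h2)
    · rw [Over.comp_left, Over.comp_left, Scheme.Hom.comp_apply, Scheme.Hom.comp_apply, f3, g3, h3]
    · have c1 : (k₃ ≫ k₂ ≫ x) ≫ g = (k₃ ≫ k₂ ≫ k₁) ≫ lift t v := by
        simp only [Category.assoc, h4]
      have c2 : (k₃ ≫ y) ≫ g = (k₃ ≫ k₂ ≫ k₁) ≫ lift t' v := by
        simp only [Category.assoc, g4]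
      have c3 : z ≫ g = (k₃ ≫ k₂ ≫ k₁) ≫ lift (t * t') v := by
        simp only [Category.assoc, f4]
      rw [map_add, r_r, r_r, r_r, ← c1, ← c2, ← c3, ← heq, ← heq, ← heq]
      have d1 : ∀ {Y : Over S} (j : T ⊗ V ⟶ Y), (k₃ ≫ k₂ ≫ x) ≫ g ≫ j = (k₃ ≫ k₂ ≫ k₁) ≫ lift t v ≫ j := by
        intro Y j
        rw [← Category.assoc, c1, Category.assoc]
      have d2 : ∀ {Y : Over S} (j : T ⊗ V ⟶ Y), (k₃ ≫ y) ≫ g ≫ j = (k₃ ≫ k₂ ≫ k₁) ≫ lift t' v ≫ j := by
        intro Y j
        rw [← Category.assoc, c2, Category.assoc]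
      have d3 : ∀ {Y : Over S} (j : T ⊗ V ⟶ Y), z ≫ g ≫ j = (k₃ ≫ k₂ ≫ k₁) ≫ lift (t * t') v ≫ j := by
        intro Y j
        rw [← Category.assoc, c3, Category.assoc]
      apply hadd
      · rw [d1, d3, lift_snd, lift_snd]
      · rw [d2, d3, lift_snd, lift_snd]
      · rw [d1, d2, d3, lift_fst, lift_fst, lift_fst, MonObj.comp_mul])
  refine ⟨τ, hτ, fun W z => ?_⟩
  rw [heq, ← hτe, ← r_toSec]
  congr 2
  apply CartesianMonoidalCategory.hom_ext <;> simp

end Dat

end K630.AbExt
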