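import Groth.Agent.S1364
import Groth.Agent.S1335
import Groth.Agent.Ega43.GeomFibre
import Groth.Agent.Flat2B.SmoothGeom
import Groth.Prelude.Def_Red

/-!
# Geometric connectedness descends to a stage

* `exists_idem`: `A₁` proper and smooth over `Spec Λ₁`, with geometrically connected base change to `Spec Λ`; then `A₁`
  is geometrically connected over an open and closed `Spec Λ₁[1/e]` which contains the image of `Spec Λ`.
-/

set_option autoImplicit false
universe u
open CategoryTheory CategoryTheory.Limits AlgebraicGeometry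

noncomputable section

namespace K630.GeomConn

open Groth.Agent.Ega43.GeomFibre

theorem exists_idem {Λ₁ Λ : Type u} [CommRing Λ₁] [CommRing Λ] (ψ : Λ₁ →+* Λ) (A₁ : Over (Spec (CommRingCat.of Λ₁)))
    [IsProper A₁.hom] [Smooth A₁.hom]
    (h : GeometricallyConnected (Red.bc (Spec.map (CommRingCat.ofHom ψ)) A₁).hom) :
    ∃ e : Λ₁, e * e = e ∧ ψ e = 1 ∧
      GeometricallyConnected (Red.bc (Spec.map (CommRingCat.ofHom (algebraMap Λ₁ (Localization.Away e)))) A₁).hom := by
  have hred : GeometricallyReduced A₁.hom := Groth.Agent.Flat2B.SmoothGeom.geometricallyReduced_of_smooth _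
  have hlc : IsLocallyConstant (fun s : Spec (CommRingCat.of Λ₁) => MoreMor.nGeomConnComp A₁.hom s) :=
    Groth.Agent.S1364.result A₁.hom
  let U : Set (PrimeSpectrum Λ₁) := {s | MoreMor.nGeomConnComp A₁.hom s = 1}
  have hU : IsClopen U := hlc.isClopen_fiber 1
  obtain ⟨e, he, heU⟩ := PrimeSpectrum.exists_idempotent_basicOpen_eq_of_isClopen hU
  have hbc : ∀ {Λ' : Type u} [CommRing Λ'] (χ : Λ₁ →+* Λ') (y : Spec (CommRingCat.of Λ')),
      MoreMor.nGeomConnComp (Red.bc (Spec.map (CommRingCat.ofHom χ)) A₁).hom y =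
        MoreMor.nGeomConnComp A₁.hom (Spec.map (CommRingCat.ofHom χ) y) := by
    intro Λ' _ χ y
    exact Groth.Agent.S1335.result _ _ _ _ (IsPullback.of_hasPullback A₁.hom (Spec.map (CommRingCat.ofHom χ))) y
  refine ⟨e, he, ?_, ?_⟩
  · have h1 : ∀ y : PrimeSpectrum Λ, ψ e ∉ y.asIdeal := by
      intro y
      have h2 : MoreMor.nGeomConnComp A₁.hom (Spec.map (CommRingCat.ofHom ψ) y) = 1 := by
        rw [← hbc ψ y]
        exact nGeomConnComp_eq_one _ _ inferInstance
      have h3 : (Spec.map (CommRingCat.ofHom ψ) y : PrimeSpectrum Λ₁) ∈ U := h2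
      rw [heU] at h3
      exact h3
    have h4 : IsUnit (ψ e) := by
      by_contra hu
      obtain ⟨m, hm, hmem⟩ := exists_max_ideal_of_mem_nonunits hu
      exact h1 ⟨m, hm.isPrime⟩ hmem
    have h5 : ψ e * ψ e = ψ e * 1 := by rw [← map_mul, he, _root_.mul_one]
    exact h4.mul_left_cancel h5
  · rw [GeometricallyConnected.iff_geometricallyConnected_fiber]
    intro y
    apply geometricallyConnected_of_nGeomConnComp
    rw [hbc]
    have h1 : (Spec.map (CommRingCat.ofHom (algebraMap Λ₁ (Localization.Away e))) y : PrimeSpectrum Λ₁) ∈ U := by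
      rw [heU]
      intro hmem
      have h2 : algebraMap Λ₁ (Localization.Away e) e ∈ (y : PrimeSpectrum (Localization.Away e)).asIdeal := hmem
      exact (y : PrimeSpectrum (Localization.Away e)).isPrime.ne_top
        (Ideal.eq_top_of_isUnit_mem _ h2 (IsLocalization.Away.algebraMap_isUnit e))
    exact h1

end K630.GeomConn
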