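import Groth.Agent.AbSch.K630.Coc

/-!
# Splittings and schematically dense families

* `Dense V`: the family `V i` of `S`-schemes is schematically dense after every flat base change `W ⟶ S`;
* `Dat.ext_of_dense`: sections of an extension over a flat `S`-scheme which agree over the `V i` agree;
* `Dat.ns_of_dense`: a section over a covering `X ⟶ T` which is given by `n`-splittings over the `V i` gives an
  `n`-splitting over `S`;
* `Dat.ns_of_dense_translate`: the same when only the difference map `Z × Z ⟶ T` is a covering;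
* `dense_spec`: `Spec F_i ⟶ Spec B`, `B ⟶ ∏ F_i` injective, finitely many `i`.
-/

set_option autoImplicit false
universe u
open CategoryTheory CategoryTheory.Limits MonoidalCategory CartesianMonoidalCategory MonObj AlgebraicGeometry Opposite

noncomputable section

namespace K630.AbExt

open Groth.Agent.Etdl.H432.Sec K452.HomPts K771.HomEv

variable {S : Scheme.{u}}

/-- The family `V` is schematically dense over every flat `S`-scheme. -/
def Dense {I : Type*} (V : I → Over S) : Prop :=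
  ∀ (W Z : Over S), Flat W.hom → IsSeparated Z.hom → ∀ (a b : W ⟶ Z),
    (∀ i, fst W (V i) ≫ a = fst W (V i) ≫ b) → a = b

lemma flat_tensor (X Y : Over S) [Flat X.hom] [Flat Y.hom] : Flat (X ⊗ Y).hom := by
  have h : (X ⊗ Y).hom = pullback.fst X.hom Y.hom ≫ X.hom := rfl
  rw [h]
  infer_instance

section Universal

variable {T X : Over S} [GrpObj T] (p : X ⟶ T)

/-- The scheme of triples `(x, y, z)` with `p x * p y = p z`. -/
abbrev Tri : Over S := pullback ((fst X X ≫ p) * (snd X X ≫ p) : X ⊗ X ⟶ T) p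

/-- first coordinate -/
def Tri.x : Tri p ⟶ X := pullback.fst _ _ ≫ fst X X

/-- second coordinate -/
def Tri.y : Tri p ⟶ X := pullback.fst _ _ ≫ snd X X

/-- third coordinate -/
def Tri.z : Tri p ⟶ X := pullback.snd _ _

lemma Tri.w : (Tri.x p ≫ p) * (Tri.y p ≫ p) = Tri.z p ≫ p := by
  have h := pullback.condition (f := ((fst X X ≫ p) * (snd X X ≫ p) : X ⊗ X ⟶ T)) (g := p)
  rw [MonObj.comp_mul] at h
  simpa only [Tri.x, Tri.y, Tri.z, Category.assoc] using h

/-- the map to the scheme of triples -/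
def Tri.lift {W : Over S} (x y z : W ⟶ X) (h : (x ≫ p) * (y ≫ p) = z ≫ p) : W ⟶ Tri p :=
  pullback.lift (CartesianMonoidalCategory.lift x y) z (by
    rw [MonObj.comp_mul, ← Category.assoc, ← Category.assoc, CartesianMonoidalCategory.lift_fst,
      CartesianMonoidalCategory.lift_snd, h])

lemma Tri.lift_x {W : Over S} (x y z : W ⟶ X) (h : (x ≫ p) * (y ≫ p) = z ≫ p) : Tri.lift p x y z h ≫ Tri.x p = x := by
  unfold Tri.lift Tri.x
  rw [pullback.lift_fst_assoc, CartesianMonoidalCategory.lift_fst]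

lemma Tri.lift_y {W : Over S} (x y z : W ⟶ X) (h : (x ≫ p) * (y ≫ p) = z ≫ p) : Tri.lift p x y z h ≫ Tri.y p = y := by
  unfold Tri.lift Tri.y
  rw [pullback.lift_fst_assoc, CartesianMonoidalCategory.lift_snd]

lemma Tri.lift_z {W : Over S} (x y z : W ⟶ X) (h : (x ≫ p) * (y ≫ p) = z ≫ p) : Tri.lift p x y z h ≫ Tri.z p = z := by
  unfold Tri.lift Tri.z
  rw [pullback.lift_snd]

lemma Tri.flat [Flat X.hom] [Flat p.left] : Flat (Tri p).hom := by
  have h1 : IsPullback (pullback.fst ((fst X X ≫ p) * (snd X X ≫ p) : X ⊗ X ⟶ T) p).left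
      (pullback.snd ((fst X X ≫ p) * (snd X X ≫ p) : X ⊗ X ⟶ T) p).left
      ((fst X X ≫ p) * (snd X X ≫ p) : X ⊗ X ⟶ T).left p.left :=
    (IsPullback.of_hasPullback ((fst X X ≫ p) * (snd X X ≫ p) : X ⊗ X ⟶ T) p).map (Over.forget S)
  have h2 : Flat (pullback.fst ((fst X X ≫ p) * (snd X X ≫ p) : X ⊗ X ⟶ T) p).left :=
    MorphismProperty.of_isPullback h1.flip inferInstance
  have h3 := flat_tensor X X
  have h4 : (Tri p).hom = (pullback.fst ((fst X X ≫ p) * (snd X X ≫ p) : X ⊗ X ⟶ T) p).left ≫ (X ⊗ X).hom :=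
    (Over.w _).symm
  rw [h4]
  infer_instance

end Universal

variable {T A : Over S} [GrpObj T] [IsCommMonObj T] [GrpObj A] [IsCommMonObj A]

namespace Dat

variable {D : Dat T A} {I : Type*} {V : I → Over S}

theorem ext_of_dense (hV : Dense V) [IsSeparated T.hom] [IsSeparated A.hom] {W : Over S} [Flat W.hom]
    (e e' : Γs D.E W) (h : ∀ i, r D.E (fst W (V i)) e = r D.E (fst W (V i)) e') : e = e' := by
  have h1 : m D.q W (e - e') = 0 := by
    rw [map_sub, sub_eq_zero]
    apply pt_injective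
    refine hV W T inferInstance inferInstance _ _ fun i => ?_
    rw [← pt_r, ← pt_r, ← m_r, ← m_r, h i]
  obtain ⟨a, ha⟩ := D.exists_i _ h1
  have h2 : a = 0 := by
    apply pt_injective
    refine hV W A inferInstance inferInstance _ _ fun i => ?_
    rw [← pt_r, ← pt_r]
    congr 1
    apply D.i_inj
    rw [m_r, m_r, ha, map_sub, h i, sub_self, map_zero, map_zero]
  rw [h2, map_zero] at ha
  exact sub_eq_zero.mp ha.symm

/-- `n`-splittings over `S` from additive sections over a covering `p : X ⟶ T`. -/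
theorem ns_of_cover {X : Over S} (p : X ⟶ T) (hp : Cov p) {n : ℕ} (s : Γs D.E X) (hq : m D.q X s = n • sec p)
    (hadd : ∀ {W : Over S} (x y z : W ⟶ X), (x ≫ p) * (y ≫ p) = z ≫ p → r D.E x s + r D.E y s = r D.E z s) :
    ∃ σ : Γs D.H (𝟙_ (Over S)), D.IsNS n σ ∧ ∀ (W : Over S) (x : W ⟶ X), ev σ (toUnit W) (sec (x ≫ p)) = r D.E x s := by
  have hcov : Cov (lift p (toUnit X) : X ⟶ T ⊗ 𝟙_ (Over S)) := by
    have h1 : lift p (toUnit X) ≫ fst T (𝟙_ (Over S)) = p := lift_fst _ _
    have h2 : IsIso (fst T (𝟙_ (Over S))) := by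
      have : fst T (𝟙_ (Over S)) = (ρ_ T).hom := by
        rw [CartesianMonoidalCategory.rightUnitor_hom]
      rw [this]
      infer_instance
    have h3 : (lift p (toUnit X) : X ⟶ T ⊗ 𝟙_ (Over S)) = p ≫ inv (fst T (𝟙_ (Over S))) := by
      rw [IsIso.eq_comp_inv, h1]
    intro x
    have h4 : IsIso (inv (fst T (𝟙_ (Over S)))).left :=
      inferInstanceAs (IsIso ((Over.forget S).map (inv (fst T (𝟙_ (Over S))))))
    obtain ⟨_, g1, g2, y, hy⟩ := hp ((fst T (𝟙_ (Over S))).left x)
    refine ⟨PUnit.unit, ?_, ?_, y, ?_⟩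
    · rw [h3, Over.comp_left]
      exact MorphismProperty.comp_mem @Flat _ _ g1 inferInstance
    · rw [h3, Over.comp_left]
      exact MorphismProperty.comp_mem @LocallyOfFinitePresentation _ _ g2 inferInstance
    · rw [h3, Over.comp_left, Scheme.Hom.comp_apply, hy, ← Scheme.Hom.comp_apply, ← Over.comp_left,
        IsIso.hom_inv_id, Over.id_left]
      rfl
  obtain ⟨σ, hσ, hσ'⟩ := exists_of_add (D := D) (n := n) _ hcov s (by rw [lift_fst, hq]) (fun W x y z _ _ hxyz => by
    rw [lift_fst] at hxyz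
    exact hadd x y z hxyz)
  refine ⟨σ, hσ, fun W x => ?_⟩
  have h1 := hσ' W x
  rw [lift_fst] at h1
  rw [← h1]
  congr 2
  exact toUnit_unique _ _

theorem ns_of_dense (hV : Dense V) [IsSeparated T.hom] [IsSeparated A.hom] {X : Over S} [Flat X.hom] (p : X ⟶ T)
    [Flat p.left] [LocallyOfFinitePresentation p.left] [Surjective p.left] {n : ℕ} (s : Γs D.E X)
    (hq : m D.q X s = n • sec p) (τ : ∀ i, Γs D.H (V i))
    (hs : ∀ i, r D.E (fst X (V i)) s = ev (τ i) (snd X (V i)) (sec (fst X (V i) ≫ p))) :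
    ∃ σ : Γs D.H (𝟙_ (Over S)), D.IsNS n σ ∧ ∀ (W : Over S) (x : W ⟶ X), ev σ (toUnit W) (sec (x ≫ p)) = r D.E x s := by
  have key : r D.E (Tri.x p) s + r D.E (Tri.y p) s = r D.E (Tri.z p) s := by
    have := Tri.flat p
    refine ext_of_dense hV _ _ fun i => ?_
    have hx : ∀ (x : Tri p ⟶ X), r D.E (fst (Tri p) (V i)) (r D.E x s) =
        ev (τ i) (snd (Tri p) (V i)) (sec (fst (Tri p) (V i) ≫ x ≫ p)) := by
      intro x
      have h1 : fst (Tri p) (V i) ≫ x = lift (fst (Tri p) (V i) ≫ x) (snd (Tri p) (V i)) ≫ fst X (V i) := by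
        rw [lift_fst]
      rw [r_r, h1, ← r_r, hs, ev_r', lift_snd, r_sec, lift_fst_assoc, Category.assoc]
    rw [map_add, hx, hx, hx, ← Tri.w p, MonObj.comp_mul, sec_mul, map_add]
  refine ns_of_cover p (cov_of p) s hq (fun {W} x y z hxyz => ?_)
  have h1 := congrArg (r D.E (Tri.lift p x y z hxyz)) key
  rwa [map_add, r_r, r_r, r_r, Tri.lift_x, Tri.lift_y, Tri.lift_z] at h1

/-- Translation: only the difference map has to be a covering. -/
theorem ns_of_dense_translate (hV : Dense V) [IsSeparated T.hom] [IsSeparated A.hom] {Z : Over S} [Flat Z.hom]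
    (z : Z ⟶ T) [hf : Flat ((fst Z Z ≫ z)⁻¹ * (snd Z Z ≫ z)).left]
    [LocallyOfFinitePresentation ((fst Z Z ≫ z)⁻¹ * (snd Z Z ≫ z)).left]
    [Surjective ((fst Z Z ≫ z)⁻¹ * (snd Z Z ≫ z)).left] {n : ℕ} (s : Γs D.E Z)
    (hq : m D.q Z s = n • sec z) (τ : ∀ i, Γs D.H (V i))
    (hs : ∀ i, r D.E (fst Z (V i)) s = ev (τ i) (snd Z (V i)) (sec (fst Z (V i) ≫ z))) : D.NS n (𝟙_ (Over S)) := by
  have := flat_tensor Z Z
  have hinv : ∀ {W : Over S} (x : W ⟶ T), sec x⁻¹ = - sec x := fun x => by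
    rw [eq_neg_iff_add_eq_zero, ← sec_mul, inv_mul_cancel, sec_one]
  obtain ⟨σ, hσ, -⟩ := ns_of_dense (D := D) hV ((fst Z Z ≫ z)⁻¹ * (snd Z Z ≫ z)) (n := n)
    (- r D.E (fst Z Z) s + r D.E (snd Z Z) s) (by
      rw [map_add, map_neg, m_r, m_r, hq, map_nsmul, map_nsmul, r_sec, r_sec, sec_mul, hinv, smul_add, smul_neg])
    τ (fun i => by
      have hx : ∀ (x : Z ⊗ Z ⟶ Z), r D.E (fst (Z ⊗ Z) (V i)) (r D.E x s) =
          ev (τ i) (snd (Z ⊗ Z) (V i)) (sec (fst (Z ⊗ Z) (V i) ≫ x ≫ z)) := by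
        intro x
        have h1 : fst (Z ⊗ Z) (V i) ≫ x = lift (fst (Z ⊗ Z) (V i) ≫ x) (snd (Z ⊗ Z) (V i)) ≫ fst Z (V i) := by
          rw [lift_fst]
        rw [r_r, h1, ← r_r, hs, ev_r', lift_snd, r_sec, lift_fst_assoc, Category.assoc]
      rw [map_add, map_neg, hx, hx, MonObj.comp_mul, sec_mul, GrpObj.comp_inv, hinv, map_add, map_neg])
  exact ⟨σ, hσ⟩

end Dat

section Spec

open TensorProduct

lemma inj_of_flat {B : Type u} [CommRing B] {I : Type u} [Finite I] (F : I → Type u) [∀ i, CommRing (F i)]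
    [∀ i, Algebra B (F i)] (hinj : ∀ x : B, (∀ i, algebraMap B (F i) x = 0) → x = 0)
    (C : Type u) [CommRing C] [Algebra B C] [Module.Flat B C] (c : C) (hc : ∀ i, (c ⊗ₜ[B] (1 : F i)) = 0) : c = 0 := by
  classical
  have := Fintype.ofFinite I
  let f : B →ₗ[B] (∀ i, F i) := LinearMap.pi fun i => Algebra.linearMap B (F i)
  have hf : Function.Injective f := by
    rw [injective_iff_map_eq_zero]
    intro x hx
    exact hinj x fun i => congrFun hx i
  have h1 := Module.Flat.lTensor_preserves_injective_linearMap (M := C) f hf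
  have h2 : (LinearMap.lTensor C f) (c ⊗ₜ[B] (1 : B)) = 0 := by
    rw [LinearMap.lTensor_tmul]
    apply (TensorProduct.piRight B B C F).injective
    rw [map_zero]
    ext i
    rw [TensorProduct.piRight_apply, TensorProduct.piRightHom_tmul]
    have : f 1 i = 1 := by
      change algebraMap B (F i) 1 = 1
      rw [map_one]
    change c ⊗ₜ[B] f 1 i = 0
    rw [this, hc i]
  have h3 : c ⊗ₜ[B] (1 : B) = 0 := by
    apply h1
    rw [h2, map_zero]
  have h4 := congrArg (TensorProduct.rid B C) h3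
  rwa [TensorProduct.rid_tmul, one_smul, map_zero] at h4

lemma ext_spec {B : Type u} [CommRing B] {I : Type u} [Finite I] (F : I → Type u) [∀ i, CommRing (F i)]
    (φ : ∀ i, B →+* F i) (hinj : ∀ x : B, (∀ i, φ i x = 0) → x = 0)
    (C : Type u) [CommRing C] (ψ : B →+* C) (hψ : ψ.Flat) (Z : Over (Spec (CommRingCat.of B))) [IsSeparated Z.hom]
    (a b : Over.mk (Spec.map (CommRingCat.ofHom ψ)) ⟶ Z)
    (h : ∀ i, fst (Over.mk (Spec.map (CommRingCat.ofHom ψ))) (Over.mk (Spec.map (CommRingCat.ofHom (φ i)))) ≫ a =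
      fst (Over.mk (Spec.map (CommRingCat.ofHom ψ))) (Over.mk (Spec.map (CommRingCat.ofHom (φ i)))) ≫ b) : a = b := by
  algebraize [ψ]
  let _ : ∀ i, Algebra B (F i) := fun i => (φ i).toAlgebra
  let W : Over (Spec (CommRingCat.of B)) := Over.mk (Spec.map (CommRingCat.ofHom ψ))
  have hcl : IsClosedImmersion (equalizer.ι a b).left := inferInstance
  have hinj' : Function.Injective (equalizer.ι a b).left.appTop := by
    rw [injective_iff_map_eq_zero]
    intro c hc
    let c' : C := (Scheme.ΓSpecIso (CommRingCat.of C)).hom c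
    have hc' : c' = 0 := by
      refine inj_of_flat F hinj C c' fun i => ?_
      let f := fst W (Over.mk (Spec.map (CommRingCat.ofHom (φ i))))
      have h1 : (equalizer.lift f (h i)).left ≫ (equalizer.ι a b).left = f.left := by
        rw [← Over.comp_left, equalizer.lift_ι]
      have h2 : f.left.appTop c = 0 := by
        rw [← h1, Scheme.Hom.comp_appTop, ConcreteCategory.comp_apply, hc, map_zero]
      have h3 : (pullbackSpecIso B C (F i)).inv ≫ f.left =
          Spec.map (CommRingCat.ofHom (algebraMap C (C ⊗[B] F i))) :=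
        pullbackSpecIso_inv_fst' B C (F i)
      have h4 : (Spec.map (CommRingCat.ofHom (algebraMap C (C ⊗[B] F i)))).appTop c = 0 := by
        rw [← h3, Scheme.Hom.comp_appTop, ConcreteCategory.comp_apply, h2, map_zero]
      have h5 := ConcreteCategory.congr_hom (Scheme.ΓSpecIso_naturality
        (CommRingCat.ofHom (algebraMap C (C ⊗[B] F i)))) c
      change (Scheme.ΓSpecIso _).hom ((Spec.map (CommRingCat.ofHom (algebraMap C (C ⊗[B] F i)))).appTop c) =
        algebraMap C (C ⊗[B] F i) c' at h5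
      rw [h4, map_zero] at h5
      exact h5.symm
    have : c = (Scheme.ΓSpecIso (CommRingCat.of C)).inv c' := by
      change c = ((Scheme.ΓSpecIso (CommRingCat.of C)).hom ≫ (Scheme.ΓSpecIso (CommRingCat.of C)).inv) c
      rw [Iso.hom_inv_id]
      rfl
    rw [this, hc', map_zero]
  have haff : IsAffine W.left := inferInstanceAs (IsAffine (Spec (CommRingCat.of C)))
  have hiso : IsIso (equalizer.ι a b).left := @IsClosedImmersion.isIso_of_injective_of_isAffine _ _ haff _ _ hinj'
  have h1 : (equalizer.ι a b).left ≫ a.left = (equalizer.ι a b).left ≫ b.left := by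
    rw [← Over.comp_left, equalizer.condition, Over.comp_left]
  apply Over.OverMorphism.ext
  rwa [cancel_epi] at h1

/-- Finitely many morphisms `Spec F_i ⟶ Spec B` with `B ⟶ ∏ F_i` injective form a dense family. -/
theorem dense_spec {B : Type u} [CommRing B] {I : Type u} [Finite I] (F : I → Type u) [∀ i, CommRing (F i)]
    (φ : ∀ i, B →+* F i) (hinj : ∀ x : B, (∀ i, φ i x = 0) → x = 0) :
    Dense (fun i => Over.mk (Spec.map (CommRingCat.ofHom (φ i)))) := by
  intro W Z hW hZ a b h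
  apply Over.OverMorphism.ext
  refine Scheme.Cover.hom_ext W.left.affineCover _ _ fun j => ?_
  let ψ' := Spec.preimage (W.left.affineCover.f j ≫ W.hom)
  have hψ' : Spec.map ψ' = W.left.affineCover.f j ≫ W.hom := Spec.map_preimage _
  have hflat : ψ'.hom.Flat := by
    rw [← Flat.SpecMap_iff, hψ']
    have ho : IsOpenImmersion (W.left.affineCover.f j) := inferInstance
    have hf : Flat (W.left.affineCover.f j) := Flat.instOfIsOpenImmersion _
    exact MorphismProperty.comp_mem @Flat _ _ hf hW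
  let W' : Over (Spec (CommRingCat.of B)) := Over.mk (Spec.map (CommRingCat.ofHom ψ'.hom))
  let k : W' ⟶ W := Over.homMk (W.left.affineCover.f j) hψ'.symm
  have h1 : k ≫ a = k ≫ b := by
    refine ext_spec F φ hinj _ ψ'.hom hflat Z _ _ fun i => ?_
    have h2 : fst W' (Over.mk (Spec.map (CommRingCat.ofHom (φ i)))) ≫ k =
        (k ▷ (Over.mk (Spec.map (CommRingCat.ofHom (φ i))))) ≫ fst W _ := by
      rw [whiskerRight_fst]
    change fst W' _ ≫ k ≫ a = fst W' _ ≫ k ≫ b
    rw [← Category.assoc, h2, Category.assoc, h i, ← Category.assoc, ← h2, Category.assoc]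
  exact congrArg (fun t => t.left) h1

end Spec

end K630.AbExt
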