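import Groth.Agent.AbSch.K630.Dens
import Groth.Agent.Models.WeilChart

/-!
# `n`-splittings over a discrete valuation ring

`R` a discrete valuation ring (or Dedekind domain) with fraction field `K`, `T`, `A` commutative `R`-groups, `T`
smooth and separated, `A` an abelian scheme, `D` an extension of `T` by `A`.
* `ns_of_generic`: an `n`-splitting over `K` extends to an `n`-splitting over `R` (Néron property of `A`).
-/

set_option autoImplicit false
universe u
open CategoryTheory CategoryTheory.Limits MonoidalCategory CartesianMonoidalCategory MonObj AlgebraicGeometry Opposite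

noncomputable section

namespace K630.AbExt

open Groth.Agent.Etdl.H432.Sec K452.HomPts K771.HomEv

/-- The generic point of a domain. -/
abbrev gen (R : Type u) [CommRing R] : Over (Spec (CommRingCat.of R)) :=
  Over.mk (Spec.map (CommRingCat.ofHom (algebraMap R (FractionRing R))))

lemma dense_gen (R : Type u) [CommRing R] [IsDomain R] : Dense (fun _ : PUnit.{u + 1} => gen R) :=
  dense_spec (fun _ => FractionRing R) (fun _ => algebraMap R (FractionRing R)) (fun x hx =>
    (IsFractionRing.injective R (FractionRing R)) (by rw [hx PUnit.unit, map_zero]))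

section

variable {R : Type u} [CommRing R] [IsDedekindDomain R] {T A : Over (Spec (CommRingCat.of R))}
  [GrpObj T] [IsCommMonObj T] [GrpObj A] [IsCommMonObj A]

/-- Néron property of abelian schemes. -/
theorem exists_neron [IsProper A.hom] {X : Over (Spec (CommRingCat.of R))}
    [Smooth X.hom] (a : X ⊗ gen R ⟶ A) : ∃ a' : X ⟶ A, fst X (gen R) ≫ a' = a := by
  have h0 : GrpObj (Over.mk A.hom) := inferInstanceAs (GrpObj A)
  obtain ⟨u, ⟨hu1, hu2⟩, -⟩ := Groth.Agent.Models.WeilChart.existsUnique_extension A.hom X.hom (FractionRing R)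
    a.left (Over.w a)
  exact ⟨Over.homMk u hu1, Over.OverMorphism.ext hu2⟩

/-- An `n`-splitting over the generic point extends to an `n`-splitting over the whole base. -/
theorem Dat.ns_of_generic [Smooth T.hom] [IsSeparated T.hom] [IsProper A.hom] (D : Dat T A) {X : Over (Spec (CommRingCat.of R))} (p : X ⟶ T)
    [Smooth p.left] [Surjective p.left] (e : Γs D.E X) (he : m D.q X e = sec p) {n : ℕ}
    (h : D.NS n (gen R)) : D.NS n (𝟙_ (Over (Spec (CommRingCat.of R)))) := by
  obtain ⟨τ, hτ⟩ := h
  have hX : Smooth X.hom := by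
    rw [← Over.w p]
    infer_instance
  have h1 : m D.q (X ⊗ gen R) (n • r D.E (fst X (gen R)) e - ev τ (snd X (gen R)) (sec (fst X (gen R) ≫ p))) = 0 := by
    rw [map_sub, map_nsmul, m_r, he, hτ, r_sec, sub_self]
  obtain ⟨a, ha⟩ := D.exists_i _ h1
  obtain ⟨a', ha'⟩ := exists_neron (pt a)
  obtain ⟨σ, hσ, -⟩ := Dat.ns_of_dense (D := D) (dense_gen R) p (n := n) (n • e - m D.i X (sec a')) (by
      rw [map_sub, map_nsmul, he, q_i, sub_zero]) (fun _ => τ) (fun _ => by
      rw [map_sub, map_nsmul, ← m_r, r_sec, ha', sec_pt, ha]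
      abel)
  exact ⟨σ, hσ⟩

end

end K630.AbExt
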