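import Groth.Agent.AbSch.K630.Basic

/-!
# Symmetric cocycles on a covering of `T`

`p : X ⟶ T` a morphism of `S`-schemes, `T`, `A` commutative `S`-groups.
* `Coc A p`: symmetric cocycles `b(x, y, z) ∈ A(W)` for `x, y, z ∈ X(W)` with `p x * p y = p z`;
* `Coc.Sol c n`: `n b` is a coboundary: there is `a : X ⟶ A` with `a x * a y = a z * b(x, y, z) ^ n`;
* `Dat.coc`: the cocycle `e_x + e_y - e_z` of an extension with a section `e` over `X`;
* `Dat.ns_iff_sol`: there is an `n`-splitting over `S` iff `Sol n`.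
-/

set_option autoImplicit false
universe u
open CategoryTheory CategoryTheory.Limits MonoidalCategory CartesianMonoidalCategory MonObj AlgebraicGeometry Opposite

noncomputable section

namespace K630.AbExt

open Groth.Agent.Etdl.H432.Sec K452.HomPts K771.HomEv

variable {S : Scheme.{u}}

/-- Symmetric cocycles with values in `A` on `p : X ⟶ T`, in terms of points. -/
structure Coc {T X : Over S} (A : Over S) [GrpObj T] [GrpObj A] (p : X ⟶ T) where
  b : ∀ {W : Over S} (x y z : W ⟶ X), (x ≫ p) * (y ≫ p) = z ≫ p → (W ⟶ A)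
  nat : ∀ {W W' : Over S} (k : W' ⟶ W) (x y z : W ⟶ X) (h : (x ≫ p) * (y ≫ p) = z ≫ p)
    (h' : ((k ≫ x) ≫ p) * ((k ≫ y) ≫ p) = (k ≫ z) ≫ p), k ≫ b x y z h = b (k ≫ x) (k ≫ y) (k ≫ z) h'
  symm : ∀ {W : Over S} (x y z : W ⟶ X) (h : (x ≫ p) * (y ≫ p) = z ≫ p) (h' : (y ≫ p) * (x ≫ p) = z ≫ p),
    b x y z h = b y x z h'
  assoc : ∀ {W : Over S} (x y z u v w : W ⟶ X) (h₁ : (x ≫ p) * (y ≫ p) = u ≫ p) (h₂ : (u ≫ p) * (z ≫ p) = w ≫ p)
    (h₃ : (y ≫ p) * (z ≫ p) = v ≫ p) (h₄ : (x ≫ p) * (v ≫ p) = w ≫ p),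
    b x y u h₁ * b u z w h₂ = b y z v h₃ * b x v w h₄

/-- `n` times the cocycle is a coboundary. -/
def Coc.Sol {T X A : Over S} [GrpObj T] [GrpObj A] {p : X ⟶ T} (c : Coc A p) (n : ℕ) : Prop :=
  ∃ a : X ⟶ A, ∀ {W : Over S} (x y z : W ⟶ X) (h : (x ≫ p) * (y ≫ p) = z ≫ p),
    (x ≫ a) * (y ≫ a) = (z ≫ a) * (c.b x y z h) ^ n

variable {T A : Over S} [GrpObj T] [IsCommMonObj T] [GrpObj A] [IsCommMonObj A]

lemma sec_pow {G : Over S} [GrpObj G] [IsCommMonObj G] {W : Over S} (x : W ⟶ G) (n : ℕ) :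
    sec (x ^ n) = n • sec x := by
  induction n with
  | zero => rw [pow_zero, zero_smul, sec_one]
  | succ k ih => rw [pow_succ, succ_nsmul, sec_mul, ih]

lemma sec_inj {G : Over S} [GrpObj G] [IsCommMonObj G] {W : Over S} {x y : W ⟶ G} (h : sec x = sec y) : x = y := by
  rw [← pt_sec x, h, pt_sec]

namespace Dat

variable (D : Dat T A) {X : Over S} (p : X ⟶ T) (e : Γs D.E X) (he : m D.q X e = sec p)

include he in
theorem coc_aux {W : Over S} (x y z : W ⟶ X) (h : (x ≫ p) * (y ≫ p) = z ≫ p) :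
    m D.q W (r D.E x e + r D.E y e - r D.E z e) = 0 := by
  rw [map_sub, map_add, m_r, m_r, m_r, he, r_sec, r_sec, r_sec, ← sec_mul, h, sub_self]

/-- The cocycle of an extension with a section over `X`. -/
def coc : Coc A p where
  b x y z h := pt (D.exists_i _ (D.coc_aux p e he x y z h)).choose
  nat k x y z h h' := by
    apply sec_inj
    apply D.i_inj
    rw [sec_pt, (D.exists_i _ (D.coc_aux p e he _ _ _ h')).choose_spec, ← pt_r, sec_pt, m_r,
      (D.exists_i _ (D.coc_aux p e he _ _ _ h)).choose_spec, map_sub, map_add, r_r, r_r, r_r]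
  symm x y z h h' := by
    apply sec_inj
    apply D.i_inj
    rw [sec_pt, sec_pt, (D.exists_i _ (D.coc_aux p e he _ _ _ h')).choose_spec,
      (D.exists_i _ (D.coc_aux p e he _ _ _ h)).choose_spec]
    abel
  assoc x y z u v w h₁ h₂ h₃ h₄ := by
    apply sec_inj
    apply D.i_inj
    rw [sec_mul, sec_mul, map_add, map_add, sec_pt, sec_pt, sec_pt, sec_pt,
      (D.exists_i _ (D.coc_aux p e he _ _ _ h₁)).choose_spec,
      (D.exists_i _ (D.coc_aux p e he _ _ _ h₂)).choose_spec,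
      (D.exists_i _ (D.coc_aux p e he _ _ _ h₃)).choose_spec,
      (D.exists_i _ (D.coc_aux p e he _ _ _ h₄)).choose_spec]
    abel

theorem i_coc {W : Over S} (x y z : W ⟶ X) (h : (x ≫ p) * (y ≫ p) = z ≫ p) :
    m D.i W (sec ((D.coc p e he).b x y z h)) = r D.E x e + r D.E y e - r D.E z e := by
  change m D.i W (sec (pt _)) = _
  rw [sec_pt, (D.exists_i _ (D.coc_aux p e he _ _ _ h)).choose_spec]

include he in
/-- From a solution to an `n`-splitting over `S`. -/
theorem ns_of_sol (hp : Cov p) (b : ∀ {W : Over S} (x y z : W ⟶ X), (x ≫ p) * (y ≫ p) = z ≫ p → (W ⟶ A))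
    (hb : ∀ {W : Over S} (x y z : W ⟶ X) (h : (x ≫ p) * (y ≫ p) = z ≫ p),
      m D.i W (sec (b x y z h)) = r D.E x e + r D.E y e - r D.E z e)
    {n : ℕ} (a : X ⟶ A) (ha : ∀ {W : Over S} (x y z : W ⟶ X) (h : (x ≫ p) * (y ≫ p) = z ≫ p),
    (x ≫ a) * (y ≫ a) = (z ≫ a) * (b x y z h) ^ n) :
    D.NS n (𝟙_ (Over S)) := by
  have hcov : Cov (lift p (toUnit X) : X ⟶ T ⊗ 𝟙_ (Over S)) := by
    have h1 : lift p (toUnit X) ≫ fst T (𝟙_ (Over S)) = p := lift_fst _ _
    have h2 : IsIso (fst T (𝟙_ (Over S))) := by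
      have : fst T (𝟙_ (Over S)) = (ρ_ T).hom := by
        rw [CartesianMonoidalCategory.rightUnitor_hom]
      rw [this]
      infer_instance
    have h3 : (lift p (toUnit X) : X ⟶ T ⊗ 𝟙_ (Over S)) = p ≫ inv (fst T (𝟙_ (Over S))) := by
      rw [IsIso.eq_comp_inv, h1]
    intro x
    have h4 : IsIso (inv (fst T (𝟙_ (Over S)))).left :=
      inferInstanceAs (IsIso ((Over.forget S).map (inv (fst T (𝟙_ (Over S))))))
    obtain ⟨_, g1, g2, y, hy⟩ := hp ((fst T (𝟙_ (Over S))).left x)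
    refine ⟨PUnit.unit, ?_, ?_, y, ?_⟩
    · rw [h3, Over.comp_left]
      exact MorphismProperty.comp_mem @Flat _ _ g1 inferInstance
    · rw [h3, Over.comp_left]
      exact MorphismProperty.comp_mem @LocallyOfFinitePresentation _ _ g2 inferInstance
    · rw [h3, Over.comp_left, Scheme.Hom.comp_apply, hy, ← Scheme.Hom.comp_apply, ← Over.comp_left,
        IsIso.hom_inv_id, Over.id_left]
      rfl
  obtain ⟨τ, hτ, -⟩ := exists_of_add (D := D) (n := n) _ hcov (n • e - m D.i X (sec a)) (by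
      rw [lift_fst, map_sub, map_nsmul, he, q_i, sub_zero]) (fun W x y z _ _ hxyz => by
      rw [lift_fst] at hxyz
      have h1 := hb x y z hxyz
      have h2 := congrArg (fun t => m D.i W (sec t)) (ha x y z hxyz)
      simp only [sec_mul, map_add, sec_pow, map_nsmul, h1] at h2
      simp only [map_sub, map_nsmul, ← m_r, r_sec]
      have h3 : n • (r D.E x e + r D.E y e - r D.E z e) = n • r D.E x e + n • r D.E y e - n • r D.E z e := by
        rw [smul_sub, smul_add]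
      rw [h3] at h2
      have h4 := sub_eq_zero.mpr h2
      rw [← sub_eq_zero, ← neg_eq_zero, ← h4]
      abel)
  exact ⟨τ, hτ⟩

theorem ns_iff_sol (hp : Cov p) {n : ℕ} : D.NS n (𝟙_ (Over S)) ↔ (D.coc p e he).Sol n := by
  constructor
  · rintro ⟨τ, hτ⟩
    have h1 : m D.q X (n • e - ev τ (toUnit X) (sec p)) = 0 := by
      rw [map_sub, map_nsmul, he, hτ, sub_self]
    obtain ⟨a, ha⟩ := D.exists_i _ h1
    refine ⟨pt a, fun {W} x y z h => ?_⟩
    apply sec_inj
    apply D.i_inj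
    rw [sec_mul, sec_mul, map_add, map_add, sec_pow, map_nsmul, i_coc, ← pt_r, ← pt_r, ← pt_r, sec_pt, sec_pt,
      sec_pt, m_r, m_r, m_r, ha]
    simp only [map_sub, map_nsmul, ev_r', r_sec]
    rw [← h, sec_mul, map_add, toUnit_unique (x ≫ toUnit X) (z ≫ toUnit X),
      toUnit_unique (y ≫ toUnit X) (z ≫ toUnit X)]
    rw [smul_sub, smul_add]
    abel
  · rintro ⟨a, ha⟩
    exact D.ns_of_sol p e he hp (fun {W} => (D.coc p e he).b (W := W)) (fun {W} x y z h => D.i_coc p e he x y z h) a ha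

end Dat

end K630.AbExt
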