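import Groth.Agent.AbSch.K630.Complete
import Groth.Agent.AbSch.K666.LocNoeth
import Groth.Agent.AbSch.K297.SpreadNS
import Groth.Agent.AbSch.K297.Noeth
import Groth.Agent.AbSch.K130.Gen
import Groth.Agent.AbSch.K448.FieldNS

/-!
# Extensions of `𝔾_m` by an abelian scheme over an affine base are torsion

* `ns_affine`: `A` an abelian scheme over `Spec Λ`, `D` an extension of `𝔾_m` by `A`; there is an `n`-splitting of `D`
  for some `n > 0`.
-/

set_option autoImplicit false
universe u
open CategoryTheory CategoryTheory.Limits MonoidalCategory CartesianMonoidalCategory MonObj AlgebraicGeometry Opposite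

noncomputable section

namespace K630.AbExt

open Groth.Agent.Etdl.H432.Sec K452.HomPts K771.HomEv

theorem exists_ns_field (k : Type u) [Field k] [IsAlgClosed k] (A : Over (Spec (CommRingCat.of k))) [GrpObj A]
      [IsCommMonObj A] [Smooth A.hom] [IsProper A.hom] [GeometricallyConnected A.hom]
      (D : Dat (Red.Gm (Spec (CommRingCat.of k))) A) : ∃ n, 0 < n ∧ D.NS n (𝟙_ (Over (Spec (CommRingCat.of k)))) := by
  have hT : Red.IsTorus (Red.Gm (Spec (CommRingCat.of k))) := Groth.Agent.Sga3B.BorSpan613.isTorus_Gm _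
  have hGs : Smooth (Red.Gm (Spec (CommRingCat.of k))).hom := Groth.Agent.Sga3B.TorusAlgClosed.smooth_of_isTorus hT
  have hGaff : IsAffineHom (Red.Gm (Spec (CommRingCat.of k))).hom :=
    Groth.Agent.Sga3B.TorusAlgClosed.isAffineHom_of_isTorus hT
  have hGirr : GeometricallyIrreducible (Red.Gm (Spec (CommRingCat.of k))).hom :=
    Groth.Agent.Sga3B.TorusIrr.geometricallyIrreducible_of_isTorus hT
  have hGc : ConnectedSpace (Red.Gm (Spec (CommRingCat.of k))).left := by
    have : IrreducibleSpace (Red.Gm (Spec (CommRingCat.of k))).left :=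
      GeometricallyIrreducible.irreducibleSpace_of_subsingleton (Red.Gm (Spec (CommRingCat.of k))).hom
    infer_instance
  have hAc : ConnectedSpace A.left := GeometricallyConnected.connectedSpace_of_subsingleton A.hom
  obtain ⟨n, hn, h⟩ := K448.FieldNS.exists_ns D
  exact ⟨n, hn, h _⟩

/-- The noetherian case. -/
theorem ns_noetherian (Λ : Type u) [CommRing Λ] [IsNoetherianRing Λ] (A : Over (Spec (CommRingCat.of Λ))) [GrpObj A]
    [IsCommMonObj A] [Smooth A.hom] [IsProper A.hom] [GeometricallyConnected A.hom]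
    (D : Dat (Red.Gm (Spec (CommRingCat.of Λ))) A) : ∃ n, 0 < n ∧ D.NS n (𝟙_ (Over (Spec (CommRingCat.of Λ)))) :=
  K666.LocNoeth.noeth_of_complete
    (fun D X _ p _ _ _ _ e he n 𝔭 _ h => K297.SpreadNS.spread_ns D X p e he n 𝔭 h)
    (fun B _ _ _ _ _ A _ _ _ _ _ D => ns_complete (fun k _ _ A _ _ _ _ _ D => exists_ns_field k A D) B A D) Λ A D

/-- The affine case. -/
theorem ns_affine (Λ : Type u) [CommRing Λ] (A : Over (Spec (CommRingCat.of Λ))) [GrpObj A]
    [IsCommMonObj A] [Smooth A.hom] [IsProper A.hom] [GeometricallyConnected A.hom]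
    (D : Dat (Red.Gm (Spec (CommRingCat.of Λ))) A) : ∃ n, 0 < n ∧ D.NS n (𝟙_ (Over (Spec (CommRingCat.of Λ)))) :=
  K130.Gen.gen_of_noeth
    (fun A _ _ _ _ _ X _ p _ _ c => K297.Noeth.exists_noetherian_model A X p c)
    (fun Λ _ _ A _ _ _ _ _ D => ns_noetherian Λ A D) Λ A D

end K630.AbExt
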