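import Groth.Agent.AbSch.K630.Formal
import Groth.Agent.AbSch.K324.NsDvr
import Groth.Agent.AbSch.K472.Res
import Groth.Agent.AbSch.K452.NilNS
import Groth.Agent.AbSch.K595.Chart
import Groth.Agent.Sga3B.TorusIrr
import Mathlib.RingTheory.AdicCompletion.Exactness
import Mathlib.RingTheory.AdicCompletion.Noetherian
import Mathlib.RingTheory.AdicCompletion.Algebra

/-!
# `n`-splittings over a complete noetherian local ring

* `ns_complete`: `B` complete noetherian local with algebraically closed residue field, `A` an abelian scheme over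
  `B`: an extension of `𝔾_m` by `A` is `n`-split for some `n > 0`.
-/

set_option autoImplicit false
universe u
open CategoryTheory CategoryTheory.Limits MonoidalCategory CartesianMonoidalCategory MonObj AlgebraicGeometry Opposite

noncomputable section

namespace K630.AbExt

open Groth.Agent.Etdl.H432.Sec K452.HomPts K771.HomEv

/-- A quotient of a complete Noetherian local ring is complete. -/
theorem isAdicComplete_quotient (A : Type u) [CommRing A] [IsNoetherianRing A] [IsLocalRing A]
    [IsAdicComplete (IsLocalRing.maximalIdeal A) A] (p : Ideal A) [IsLocalRing (A ⧸ p)] :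
    IsAdicComplete (IsLocalRing.maximalIdeal (A ⧸ p)) (A ⧸ p) := by
  have h1 : IsAdicComplete (IsLocalRing.maximalIdeal A) (A ⧸ p) := by
    rw [← AdicCompletion.of_bijective_iff]
    constructor
    · exact AdicCompletion.of_injective_iff.mpr inferInstance
    · have hs : Function.Surjective (AdicCompletion.map (IsLocalRing.maximalIdeal A)
          (Submodule.mkQ p)) :=
        AdicCompletion.map_surjective _ (Submodule.mkQ_surjective p)
      intro y
      obtain ⟨x, rfl⟩ := hs y
      obtain ⟨z, rfl⟩ := (AdicCompletion.of_bijective (IsLocalRing.maximalIdeal A) A).2 x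
      refine ⟨Submodule.mkQ p z, ?_⟩
      rw [AdicCompletion.map_of]
  have h2 : (IsLocalRing.maximalIdeal A).map (algebraMap A (A ⧸ p)) =
      IsLocalRing.maximalIdeal (A ⧸ p) :=
    IsLocalRing.map_maximalIdeal_of_surjective _ Ideal.Quotient.mk_surjective
  rw [← h2, IsAdicComplete.map_algebraMap_iff]
  exact h1

/-- restriction to an algebra, in terms of `sp` -/
theorem exists_res_sp {B R : Type u} [CommRing B] [CommRing R] (ψ : B →+* R) {A : Over (Spec (CommRingCat.of B))}
    [GrpObj A] [IsCommMonObj A] (D : Dat (Red.Gm (Spec (CommRingCat.of B))) A) :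
    ∃ D' : Dat (Red.Gm (Spec (CommRingCat.of R))) (Red.bc (Spec.map (CommRingCat.ofHom ψ)) A),
      (∀ (n : ℕ) {R' : Type u} [CommRing R'] (φ : R →+* R'), D'.NS n (sp φ) ↔ D.NS n (sp (φ.comp ψ))) ∧
      (∀ n : ℕ, D'.NS n (𝟙_ _) ↔ D.NS n (sp ψ)) := by
  obtain ⟨D', hD'⟩ := K472.AbRes.exists_res_Gm (Spec.map (CommRingCat.ofHom ψ)) D
  have h1 : ∀ (W : Over (Spec (CommRingCat.of R))) (W' : Over (Spec (CommRingCat.of B))) (a : W.left ≅ W'.left)
      (ha : a.hom ≫ W'.hom = W.hom ≫ Spec.map (CommRingCat.ofHom ψ)) (n : ℕ), D'.NS n W ↔ D.NS n W' := by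
    intro W W' a ha n
    rw [hD']
    constructor
    · intro h
      refine h.restrict (Over.homMk a.inv ?_)
      change a.inv ≫ W.hom ≫ Spec.map (CommRingCat.ofHom ψ) = _
      rw [← ha, Iso.inv_hom_id_assoc]
    · intro h
      exact h.restrict (Over.homMk a.hom ha)
  refine ⟨D', fun n R' _ φ => h1 _ _ (Iso.refl _) ?_ n, fun n => h1 _ _ (Iso.refl _) ?_ n⟩
  · change 𝟙 _ ≫ Spec.map _ = Spec.map _ ≫ Spec.map _
    rw [Category.id_comp, ← Spec.map_comp, ← CommRingCat.ofHom_comp]
  · change 𝟙 _ ≫ Spec.map _ = 𝟙 _ ≫ Spec.map _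
    rfl

theorem ns_complete
    (H1 : ∀ (k : Type u) [Field k] [IsAlgClosed k] (A : Over (Spec (CommRingCat.of k))) [GrpObj A]
      [IsCommMonObj A] [Smooth A.hom] [IsProper A.hom] [GeometricallyConnected A.hom]
      (D : Dat (Red.Gm (Spec (CommRingCat.of k))) A), ∃ n, 0 < n ∧ D.NS n (𝟙_ (Over (Spec (CommRingCat.of k)))))
    (B : Type u) [CommRing B] [IsLocalRing B] [IsNoetherianRing B]
    [IsAdicComplete (IsLocalRing.maximalIdeal B) B] [IsAlgClosed (IsLocalRing.ResidueField B)]
    (A : Over (Spec (CommRingCat.of B))) [GrpObj A]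
    [IsCommMonObj A] [Smooth A.hom] [IsProper A.hom] [GeometricallyConnected A.hom]
    (D : Dat (Red.Gm (Spec (CommRingCat.of B))) A) : ∃ n, 0 < n ∧ D.NS n (𝟙_ (Over (Spec (CommRingCat.of B)))) := by
  have hbc1 : ∀ {S S' : Scheme.{u}} (f : S' ⟶ S) (A : Over S) [Smooth A.hom], Smooth (Red.bc f A).hom :=
    fun f A _ => inferInstanceAs (Smooth (pullback.snd A.hom f))
  have hbc2 : ∀ {S S' : Scheme.{u}} (f : S' ⟶ S) (A : Over S) [IsProper A.hom], IsProper (Red.bc f A).hom :=
    fun f A _ => inferInstanceAs (IsProper (pullback.snd A.hom f))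
  have hbc3 : ∀ {S S' : Scheme.{u}} (f : S' ⟶ S) (A : Over S) [GeometricallyConnected A.hom],
      GeometricallyConnected (Red.bc f A).hom :=
    fun f A _ => inferInstanceAs (GeometricallyConnected (pullback.snd A.hom f))
  have hT : ∀ (R : Type u) [CommRing R], Red.IsTorus (Red.Gm (Spec (CommRingCat.of R))) :=
    fun R _ => Groth.Agent.Sga3B.BorSpan613.isTorus_Gm _
  -- the residue field
  obtain ⟨D₀, -, hD₀⟩ := exists_res_sp (IsLocalRing.residue B) D
  have a1 := hbc1 (Spec.map (CommRingCat.ofHom (IsLocalRing.residue B))) A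
  have a2 := hbc2 (Spec.map (CommRingCat.ofHom (IsLocalRing.residue B))) A
  have a3 := hbc3 (Spec.map (CommRingCat.ofHom (IsLocalRing.residue B))) A
  obtain ⟨n, hn, h0⟩ := H1 (IsLocalRing.ResidueField B) _ D₀
  rw [hD₀] at h0
  refine ⟨n, hn, ?_⟩
  have hker : ∀ {R : Type u} [CommRing R] (φ : B →+* R), IsLocalRing.maximalIdeal B ≤ RingHom.ker φ → D.NS n (sp φ) := by
    intro R _ φ hφ
    exact h0.restrict (spm (Ideal.Quotient.lift (IsLocalRing.maximalIdeal B) φ fun x hx => hφ hx) (by
      ext x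
      rfl))
  -- the reduction
  have hloc : IsLocalRing (B ⧸ nilradical B) := by
    have : Nontrivial (B ⧸ nilradical B) := Ideal.Quotient.nontrivial_iff.mpr (by
      intro h
      have h1 : nilradical B ≤ IsLocalRing.maximalIdeal B := nilradical_le_prime _
      rw [h] at h1
      exact (IsLocalRing.maximalIdeal.isMaximal B).ne_top (top_le_iff.mp h1))
    exact IsLocalRing.of_surjective' (Ideal.Quotient.mk _) Ideal.Quotient.mk_surjective
  let B' := B ⧸ nilradical B
  have hc' : IsAdicComplete (IsLocalRing.maximalIdeal B') B' := isAdicComplete_quotient B (nilradical B)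
  have hr' : _root_.IsReduced B' := (Ideal.isRadical_iff_quotient_reduced _).mp (Ideal.radical_isRadical _)
  obtain ⟨D₁, hD₁, hD₁'⟩ := exists_res_sp (Ideal.Quotient.mk (nilradical B)) D
  let A₁ := Red.bc (Spec.map (CommRingCat.ofHom (Ideal.Quotient.mk (nilradical B)))) A
  have b1 : Smooth A₁.hom := hbc1 _ _
  have b2 : IsProper A₁.hom := hbc2 _ _
  have b3 : GeometricallyConnected A₁.hom := hbc3 _ _
  have hmax : IsLocalRing.maximalIdeal B ≤ (IsLocalRing.maximalIdeal B').comap (Ideal.Quotient.mk (nilradical B)) := by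
    intro x hx
    rw [Ideal.mem_comap]
    exact (IsLocalRing.mem_maximalIdeal _).mpr fun hu => (IsLocalRing.mem_maximalIdeal _).mp hx
      (by
        have : IsLocalHom (Ideal.Quotient.mk (nilradical B)) := .of_surjective _ Ideal.Quotient.mk_surjective
        exact isUnit_of_map_unit (Ideal.Quotient.mk (nilradical B)) x hu)
  have hker₁ : ∀ {R : Type u} [CommRing R] (φ : B' →+* R), IsLocalRing.maximalIdeal B' ≤ RingHom.ker φ → D₁.NS n (sp φ) := by
    intro R _ φ hφ
    rw [hD₁]
    refine hker _ fun x hx => ?_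
    exact hφ (hmax hx)
  -- the truncations
  have hk : ∀ k : ℕ, D₁.NS n (sp (Ideal.Quotient.mk (IsLocalRing.maximalIdeal B' ^ k))) := by
    intro k
    obtain ⟨D₂, hD₂, hD₂'⟩ := exists_res_sp (Ideal.Quotient.mk (IsLocalRing.maximalIdeal B' ^ k)) D₁
    rw [← hD₂']
    have c1 := hbc1 (Spec.map (CommRingCat.ofHom (Ideal.Quotient.mk (IsLocalRing.maximalIdeal B' ^ k)))) A₁
    refine K452.NilNS.ns_of_nilpotent ((IsLocalRing.maximalIdeal B').map
      (Ideal.Quotient.mk (IsLocalRing.maximalIdeal B' ^ k))) ⟨k, ?_⟩ (hT _) D₂ ?_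
    · rw [← Ideal.map_pow, Ideal.map_quotient_self]
      rfl
    · change D₂.NS n (sp _)
      rw [hD₂]
      refine hker₁ _ fun x hx => ?_
      rw [RingHom.mem_ker, RingHom.comp_apply, Ideal.Quotient.eq_zero_iff_mem]
      exact Ideal.mem_map_of_mem _ hx
  -- discrete valuation rings
  have hR : ∀ (R : Type u) [CommRing R] [IsDomain R] [IsDiscreteValuationRing R] (φ : B' →+* R), IsLocalHom φ →
      D₁.NS n (sp φ) := by
    intro R _ _ _ φ hφ
    obtain ⟨D₂, hD₂, hD₂'⟩ := exists_res_sp φ D₁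
    rw [← hD₂']
    have c1 := hbc1 (Spec.map (CommRingCat.ofHom φ)) A₁
    have c2 := hbc2 (Spec.map (CommRingCat.ofHom φ)) A₁
    have c3 := hbc3 (Spec.map (CommRingCat.ofHom φ)) A₁
    refine K324.NsDvr.ns_dvr K472.AbRes.exists_res_Gm H1 R _ D₂ ?_
    change D₂.NS n (sp _)
    rw [hD₂]
    refine hker₁ _ fun x hx => ?_
    rw [RingHom.mem_ker, RingHom.comp_apply, Ideal.Quotient.eq_zero_iff_mem]
    exact (IsLocalRing.mem_maximalIdeal _).mpr fun hu => (IsLocalRing.mem_maximalIdeal _).mp hx
      (isUnit_of_map_unit φ x hu)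
  -- the chart
  have hGs : Smooth (Red.Gm (Spec (CommRingCat.of B'))).hom := Groth.Agent.Sga3B.TorusAlgClosed.smooth_of_isTorus (hT _)
  have hGaff : IsAffineHom (Red.Gm (Spec (CommRingCat.of B'))).hom :=
    Groth.Agent.Sga3B.TorusAlgClosed.isAffineHom_of_isTorus (hT _)
  have hGirr : GeometricallyIrreducible (Red.Gm (Spec (CommRingCat.of B'))).hom :=
    Groth.Agent.Sga3B.TorusIrr.geometricallyIrreducible_of_isTorus (hT _)
  have hGc : CompactSpace (Red.Gm (Spec (CommRingCat.of B'))).left := by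
    have : IsAffine (Red.Gm (Spec (CommRingCat.of B'))).left :=
      isAffine_of_isAffineHom (Red.Gm (Spec (CommRingCat.of B'))).hom
    infer_instance
  obtain ⟨X, p, e, hX, hp1, hp2, he⟩ := K595.Chart.exists_chart D₁
  let G : CommRingCat.{u} := Γ(X.left, ⊤)
  let ga' := Spec.preimage (R := CommRingCat.of B') (S := G) (X.left.isoSpec.inv ≫ X.hom)
  let ga : B' →+* G := ga'.hom
  have hga : Spec.map (CommRingCat.ofHom ga) = X.left.isoSpec.inv ≫ X.hom := Spec.map_preimage _
  let j : sp ga ⟶ X := Over.homMk X.left.isoSpec.inv hga.symm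
  have hj : IsIso j.left := by
    change IsIso X.left.isoSpec.inv
    infer_instance
  have hjp1 : Smooth (j ≫ p).left := by
    rw [Over.comp_left]
    infer_instance
  have hjp2 : Surjective (j ≫ p).left := by
    rw [Over.comp_left]
    infer_instance
  have h5 : D₁.NS n (𝟙_ _) := Dat.ns_formal (hT _) D₁ (j ≫ p) (r D₁.E j e) (by rw [m_r, he, r_sec]) hk hR
  rw [hD₁'] at h5
  exact K452.NilNS.ns_of_nilpotent (nilradical B) (IsNoetherianRing.isNilpotent_nilradical B) (hT _) D h5

end K630.AbExt
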