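import Groth.Agent.AbSch.K630.Minimal

/-!
# Agreement with the generic splittings, and descent

* `Dat.good_minimal`: a section over `O` (reduced noetherian local over `B`) which is good on all the truncations
  is good over `Spec O ⊗ mnp 𝔭`;
* `Dat.exists_desc_alpha`: the correction term descends along a flat covering if it is determined by splittings over
  a dense family.
-/

set_option autoImplicit false
universe u
open CategoryTheory CategoryTheory.Limits MonoidalCategory CartesianMonoidalCategory MonObj AlgebraicGeometry Opposite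

noncomputable section

namespace K630.AbExt

open Groth.Agent.Etdl.H432.Sec K452.HomPts K771.HomEv TensorProduct

namespace Dat

section Desc

variable {S : Scheme.{u}} {T A : Over S} [GrpObj T] [IsCommMonObj T] [GrpObj A] [IsCommMonObj A] {D : Dat T A}
  {I : Type*} {V : I → Over S}

theorem exists_desc_alpha (hT : Red.IsTorus T) [IsProper A.hom] (hV : Dense V) {n : ℕ} {X : Over S} (p : X ⟶ T)
    (e : Γs D.E X) {Y Y₀ : Over S} [Flat Y.hom] (c : Y ⟶ Y₀) [Flat c.left] [Surjective c.left] [QuasiCompact c.left]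
    (x₀ : Y₀ ⟶ X) (α : Y ⟶ A) (hns : ∀ i, D.NS n (V i))
    (hα : ∀ i, D.Good n (r D.E (fst Y (V i)) (n • r D.E (c ≫ x₀) e - m D.i _ (sec α))) (fst Y (V i) ≫ (c ≫ x₀) ≫ p)) :
    ∃ α₀ : Y₀ ⟶ A, c ≫ α₀ = α ∧
      ∀ i, D.Good n (r D.E (fst Y₀ (V i)) (n • r D.E x₀ e - m D.i _ (sec α₀))) (fst Y₀ (V i) ≫ x₀ ≫ p) := by
  choose τ hτ using hns
  have hval : ∀ (i : I) {W : Over S} (w : W ⟶ Y) (v : W ⟶ V i), m D.i W (sec (w ≫ α)) =
      n • r D.E (w ≫ c ≫ x₀) e - ev (τ i) v (sec (w ≫ c ≫ x₀ ≫ p)) := by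
    intro i W w v
    have h1 := ((hα i).restrict (lift w v)).eq_ev hT (hτ i) v
    rw [r_r, lift_fst, map_sub, map_nsmul, r_r, ← m_r, r_sec, lift_fst_assoc] at h1
    rw [sub_eq_iff_eq_add] at h1
    rw [h1]
    simp only [Category.assoc]
    abel
  have hP : Flat (pullback c c).hom := by
    have h1 : Flat (pullback.fst c c).left := flat_of_isPullback (IsPullback.of_hasPullback c c)
    rw [← Over.w (pullback.fst c c)]
    infer_instance
  have huniv : pullback.fst c c ≫ α = pullback.snd c c ≫ α := by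
    refine hV _ _ hP inferInstance _ _ fun i => ?_
    apply sec_inj
    apply D.i_inj
    rw [← Category.assoc, ← Category.assoc, hval i _ (snd _ _), hval i _ (snd _ _)]
    have h2 : ∀ {Z : Over S} (f : Y₀ ⟶ Z), (fst (pullback c c) (V i) ≫ pullback.fst c c) ≫ c ≫ f =
        (fst (pullback c c) (V i) ≫ pullback.snd c c) ≫ c ≫ f := by
      intro Z f
      simp only [Category.assoc, pullback.condition_assoc]
    rw [h2, h2]
  obtain ⟨α₀, hα₀⟩ := exists_desc c α (fun {W} x y hxy => by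
    have h3 := congrArg (pullback.lift x y hxy ≫ ·) huniv
    simpa only [pullback.lift_fst_assoc, pullback.lift_snd_assoc] using h3)
  refine ⟨α₀, hα₀, fun i => ⟨r D.H (snd _ _) (τ i), (hτ i).restrict _, ?_⟩⟩
  have hpc : IsPullback (c ▷ V i) (fst Y (V i)) (fst Y₀ (V i)) c := by
    refine IsPullback.of_isLimit (PullbackCone.IsLimit.mk (by rw [whiskerRight_fst])
      (fun s => lift s.snd (s.fst ≫ snd _ _)) (fun s => ?_) (fun s => ?_) (fun s m h1 h2 => ?_))
    · apply CartesianMonoidalCategory.hom_ext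
      · rw [Category.assoc, whiskerRight_fst, lift_fst_assoc, s.condition]
      · rw [Category.assoc, whiskerRight_snd, lift_snd]
    · rw [lift_fst]
    · apply CartesianMonoidalCategory.hom_ext
      · rw [lift_fst, ← h2]
      · rw [lift_snd, ← h1, Category.assoc, whiskerRight_snd]
  have g1 : Flat (c ▷ V i).left := flat_of_isPullback hpc
  have g2 : Surjective (c ▷ V i).left := surjective_of_isPullback hpc
  apply r_inj_of_flat (c ▷ V i)
  have h4 := hval i (fst Y (V i)) (snd Y (V i))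
  rw [ev_r, Category.id_comp, r_r, whiskerRight_fst, ev_r', whiskerRight_snd, r_sec, map_sub, map_nsmul, r_r, ← m_r, r_sec]
  simp only [Category.assoc, hα₀, whiskerRight_fst_assoc]
  rw [h4]
  abel

end Desc

section Minimal

variable {B : Type u} [CommRing B] {T A : Over (Spec (CommRingCat.of B))} [GrpObj T] [IsCommMonObj T]
  [GrpObj A] [IsCommMonObj A] {D : Dat T A}

lemma isReduced_tensor {O : Type u} [CommRing O] [_root_.IsReduced O] (φ : B →+* O) (𝔭 : Ideal B) [𝔭.IsPrime] :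
    IsReduced (sp φ ⊗ sp (algebraMap B (Localization.AtPrime 𝔭))).left := by
  algebraize [φ]
  have h1 : _root_.IsReduced (O ⊗[B] Localization.AtPrime 𝔭) :=
    isReduced_localizationPreserves (Algebra.algebraMapSubmonoid O 𝔭.primeCompl) _ inferInstance
  have h2 : IsReduced (Spec (CommRingCat.of (O ⊗[B] Localization.AtPrime 𝔭))) := inferInstance
  let e : (sp φ ⊗ sp (algebraMap B (Localization.AtPrime 𝔭))).left ≅ Spec (CommRingCat.of (O ⊗[B] Localization.AtPrime 𝔭)) :=
    pullbackSpecIso B O (Localization.AtPrime 𝔭)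
  exact isReduced_of_isOpenImmersion e.hom

theorem good_minimal [IsLocalRing B] (hT : Red.IsTorus T) [IsProper A.hom] {n : ℕ}
    (hR : ∀ (R : Type u) [CommRing R] [IsDomain R] [IsDiscreteValuationRing R] (φ : B →+* R), IsLocalHom φ →
      D.NS n (sp φ))
    {O : Type u} [CommRing O] [IsLocalRing O] [IsNoetherianRing O] [_root_.IsReduced O] {φ : B →+* O}
    (hφ : IsLocalHom φ) {s : Γs D.E (sp φ)} {y : sp φ ⟶ T} (hq : m D.q _ s = n • sec y)
    (h : ∀ k : ℕ, D.Good n
      (r D.E (spm (Ideal.Quotient.mk (IsLocalRing.maximalIdeal O ^ k)) rfl) s)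
      (spm (Ideal.Quotient.mk (IsLocalRing.maximalIdeal O ^ k)) rfl ≫ y))
    (𝔭 : Mn B) (h𝔭 : 𝔭.1 ≠ IsLocalRing.maximalIdeal B) (hns : D.NS n (mnp 𝔭)) :
    D.Good n (r D.E (fst (sp φ) (mnp 𝔭)) s) (fst (sp φ) (mnp 𝔭) ≫ y) := by
  have hred : IsReduced (sp φ ⊗ mnp 𝔭).left := isReduced_tensor φ 𝔭.1
  refine good_of_points hT (by rw [m_r, hq, map_nsmul, r_sec]) (hns.restrict (snd _ _)) fun w => ?_
  let κ := (sp φ ⊗ mnp 𝔭).left.residueField w
  let b : Spec κ ⟶ (sp φ ⊗ mnp 𝔭).left := (sp φ ⊗ mnp 𝔭).left.fromSpecResidueField w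
  let θ' := Spec.preimage (b ≫ (fst (sp φ) (mnp 𝔭)).left)
  let θ : O →+* κ := θ'.hom
  have hθ : Spec.map (CommRingCat.ofHom θ) = b ≫ (fst (sp φ) (mnp 𝔭)).left := Spec.map_preimage _
  let et' := Spec.preimage (b ≫ (snd (sp φ) (mnp 𝔭)).left)
  let et : Localization.AtPrime 𝔭.1 →+* κ := et'.hom
  have het : Spec.map (CommRingCat.ofHom et) = b ≫ (snd (sp φ) (mnp 𝔭)).left := Spec.map_preimage _
  have hcomp : θ.comp φ = et.comp (algebraMap B _) := by
    have h1 : Spec.map (CommRingCat.ofHom (θ.comp φ)) = Spec.map (CommRingCat.ofHom (et.comp (algebraMap B _))) := by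
      rw [CommRingCat.ofHom_comp, CommRingCat.ofHom_comp, Spec.map_comp, Spec.map_comp, hθ, het, Category.assoc,
        Category.assoc]
      congr 1
      exact (Over.w (fst (sp φ) (mnp 𝔭))).trans (Over.w (snd (sp φ) (mnp 𝔭))).symm
    have h2 := Spec.map_injective h1
    exact congrArg (fun t => t.hom) h2
  have hker : RingHom.ker θ ≠ IsLocalRing.maximalIdeal O := by
    intro hker
    apply h𝔭
    refine (IsLocalRing.le_maximalIdeal (isPrime_mn B 𝔭).ne_top).antisymm fun x hx => ?_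
    have h1 : φ x ∈ IsLocalRing.maximalIdeal O := (IsLocalRing.mem_maximalIdeal _).mpr fun hu =>
      (IsLocalRing.mem_maximalIdeal _).mp hx (isUnit_of_map_unit φ x hu)
    rw [← hker, RingHom.mem_ker] at h1
    by_contra hx'
    have h2 : IsUnit (et (algebraMap B (Localization.AtPrime 𝔭.1) x)) :=
      (IsLocalization.map_units _ (⟨x, hx'⟩ : 𝔭.1.primeCompl)).map et
    have h3 : et (algebraMap B (Localization.AtPrime 𝔭.1) x) = θ (φ x) := (DFunLike.congr_fun hcomp x).symm
    rw [h3, h1] at h2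
    exact not_isUnit_zero h2
  have h4 := good_of_dvr hT hR hφ hq h (K := κ) θ hker rfl
  let k : Over.mk (b ≫ (sp φ ⊗ mnp 𝔭).hom) ⟶ sp (θ.comp φ) := Over.homMk (𝟙 _) (by
    change 𝟙 _ ≫ Spec.map (CommRingCat.ofHom (θ.comp φ)) = b ≫ (sp φ ⊗ mnp 𝔭).hom
    rw [Category.id_comp, CommRingCat.ofHom_comp, Spec.map_comp, hθ, Category.assoc]
    congr 1)
  have h5 := h4.restrict k
  have h6 : k ≫ spm θ rfl = (Over.homMk b : Over.mk (b ≫ (sp φ ⊗ mnp 𝔭).hom) ⟶ sp φ ⊗ mnp 𝔭) ≫ fst (sp φ) (mnp 𝔭) := by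
    apply Over.OverMorphism.ext
    rw [Over.comp_left, Over.comp_left]
    change 𝟙 _ ≫ Spec.map (CommRingCat.ofHom θ) = b ≫ _
    rw [Category.id_comp, hθ]
  rw [r_r, ← Category.assoc, h6] at h5
  rw [r_r, ← Category.assoc]
  exact h5

end Minimal

end Dat

end K630.AbExt
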