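import Groth.Agent.AbSch.K630.Tor
import Groth.Agent.AbSch.K454.MulEpi
import Groth.Agent.S0076

/-!
# Étale torsion and lifting along the multiplication on geometrically unibranch schemes
-/

set_option autoImplicit false
universe u
open CategoryTheory CategoryTheory.Limits MonoidalCategory CartesianMonoidalCategory MonObj AlgebraicGeometry Opposite

noncomputable section

namespace K630.AbExt

open Groth.Agent.Etdl.H432.Sec K452.HomPts K771.HomEv

variable {S : Scheme.{u}}

section

attribute [local instance] Functor.grpObjObj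

/-- Multiplication by `n` is étale over the open where `n` is invertible. -/
theorem etale_pullback_snd (X : Over S) [GrpObj X] [IsProper X.hom] [Flat X.hom]
    [LocallyOfFinitePresentation X.hom] [GeometricallyReduced X.hom] [GeometricallyConnected X.hom]
    (U : S.Opens) (n : ℕ) (hn : IsUnit (n : Γ(S, U))) {Y : Over S} (c : Y ⟶ X)
    (hY : Set.range Y.hom ⊆ U) : Etale (pullback.snd (𝟙 X ^ n : X ⟶ X).left c.left) := by
  have hn' : IsUnit (((n : ℤ) : Γ((U : Scheme.{u}), ⊤))) := by
    have h1 := hn.map U.topIso.inv.hom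
    rw [map_natCast] at h1
    rwa [Int.cast_natCast]
  have i1 : IsProper ((Over.pullback U.ι).obj X).hom := inferInstanceAs (IsProper (pullback.snd X.hom U.ι))
  have i2 : Flat ((Over.pullback U.ι).obj X).hom := inferInstanceAs (Flat (pullback.snd X.hom U.ι))
  have i3 : LocallyOfFinitePresentation ((Over.pullback U.ι).obj X).hom :=
    inferInstanceAs (LocallyOfFinitePresentation (pullback.snd X.hom U.ι))
  have i4 : GeometricallyReduced ((Over.pullback U.ι).obj X).hom :=
    inferInstanceAs (GeometricallyReduced (pullback.snd X.hom U.ι))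
  have i5 : GeometricallyConnected ((Over.pullback U.ι).obj X).hom :=
    inferInstanceAs (GeometricallyConnected (pullback.snd X.hom U.ι))
  have h1 : Etale (𝟙 ((Over.pullback U.ι).obj X) ^ (n : ℤ)).left := K448.MulFibre.etale_zpow _ n hn'
  rw [← Groth.Agent.Grpsch.AbBC.map_zpow_one, zpow_natCast] at h1
  have hpb := K448.FibreBC.isPullback_map_left U.ι (𝟙 X ^ n : X ⟶ X)
  have hY' : Set.range Y.hom ⊆ Set.range U.ι := by rwa [Scheme.Opens.range_ι]
  let c' : Y.left ⟶ pullback X.hom U.ι := pullback.lift c.left (IsOpenImmersion.lift U.ι Y.hom hY') (by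
    rw [IsOpenImmersion.lift_fac, Over.w])
  have h2 : c' ≫ pullback.fst X.hom U.ι = c.left := pullback.lift_fst _ _ _
  have h3 := (IsPullback.of_hasPullback (((Over.pullback U.ι).map (𝟙 X ^ n : X ⟶ X)).left) c').paste_horiz hpb
  rw [h2] at h3
  have h4 : Etale (pullback.snd (((Over.pullback U.ι).map (𝟙 X ^ n : X ⟶ X)).left) c') := inferInstance
  rw [← h3.isoPullback_inv_snd]
  infer_instance

end

/-- The étale torsion over the open where `n` is invertible. -/
theorem exists_etale_torsion (T : Over S) [GrpObj T] [IsProper T.hom] [Flat T.hom]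
    [LocallyOfFinitePresentation T.hom] [GeometricallyReduced T.hom] [GeometricallyConnected T.hom]
    (U : S.Opens) (n : ℕ) (hn : IsUnit (n : Γ(S, U))) : ∃ (N : Over S) (_ : Etale N.hom) (j : N ⟶ T),
      j ^ n = 1 ∧ Set.range N.hom ⊆ U ∧
      ∀ (W : Over S) (x : W ⟶ T), x ^ n = 1 → Set.range W.hom ⊆ U → ∃ w : W ⟶ N, w ≫ j = x := by
  let V : Over S := Over.mk U.ι
  let c : V ⟶ T := 1
  let N : Over S := pullback (𝟙 T ^ n : T ⟶ T) c
  have hV : Set.range V.hom ⊆ U := by
    change Set.range U.ι ⊆ U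
    rw [Scheme.Opens.range_ι]
  have h1 := etale_pullback_snd T U n hn c hV
  have hpb := (IsPullback.of_hasPullback (𝟙 T ^ n : T ⟶ T) c).map (Over.forget S)
  have h2 : Etale (pullback.snd (𝟙 T ^ n : T ⟶ T) c).left := by
    have e1 : (pullback.snd (𝟙 T ^ n : T ⟶ T) c).left = hpb.isoPullback.hom ≫
        pullback.snd (𝟙 T ^ n : T ⟶ T).left c.left := hpb.isoPullback_hom_snd.symm
    rw [e1]
    exact MorphismProperty.comp_mem @Etale _ _ inferInstance h1
  have h3 : (pullback.snd (𝟙 T ^ n : T ⟶ T) c).left ≫ U.ι = N.hom := Over.w _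
  refine ⟨N, ?_, pullback.fst _ _, ?_, ?_, ?_⟩
  · rw [← h3]
    infer_instance
  · have h4 := pullback.condition (f := (𝟙 T ^ n : T ⟶ T)) (g := c)
    rwa [MonObj.comp_pow, Category.comp_id, MonObj.comp_one] at h4
  · rw [← h3, Scheme.Hom.comp_base]
    rintro _ ⟨x, rfl⟩
    exact hV ⟨_, rfl⟩
  · intro W x hx hW
    have hW' : Set.range W.hom ⊆ Set.range U.ι := by rwa [Scheme.Opens.range_ι]
    let v : W ⟶ V := Over.homMk (IsOpenImmersion.lift U.ι W.hom hW') (IsOpenImmersion.lift_fac _ _ _)
    refine ⟨pullback.lift x v ?_, pullback.lift_fst _ _ _⟩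
    rw [MonObj.comp_pow, Category.comp_id, MonObj.comp_one, hx]

/-- Sections of integral morphisms which are étale over `Y` extend from `G ⊗ Y` to `Y`. -/
theorem exists_lift_of_etale (G : Over S) [QuasiCompact G.hom] [QuasiSeparated G.hom]
    [UniversallyInjective (nrm G).hom] [Surjective (nrm G).hom] {Y A B : Over S} [Smooth Y.hom]
    (g : A ⟶ B) [IsIntegralHom g.left] (c : Y ⟶ B) (hc : Etale (pullback.snd g.left c.left)) (b : G ⊗ Y ⟶ A)
    (h : b ≫ g = snd G Y ≫ c) : ∃ b' : Y ⟶ A, snd G Y ≫ b' = b := by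
  obtain ⟨b₁, hb₁, hb₂⟩ := exists_lift_nrm G g c b h
  let q : (nrm G ⊗ Y).left ⟶ Y.left := (snd (nrm G) Y).left
  have i1 : IsIntegralHom q := inferInstanceAs (IsIntegralHom (pullback.snd (nrm G).hom Y.hom))
  have i2 : UniversallyInjective q := MorphismProperty.pullback_snd (P := @UniversallyInjective) (nrm G).hom Y.hom ‹_›
  have i3 : Surjective q := inferInstanceAs (Surjective (pullback.snd (nrm G).hom Y.hom))
  let s : (nrm G ⊗ Y).left ⟶ pullback g.left c.left := pullback.lift b₁.left q (by
    rw [← Over.comp_left, hb₁, Over.comp_left])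
  have hs : s ≫ pullback.snd g.left c.left = q := pullback.lift_snd _ _ _
  let X' : Over Y.left := Over.mk (pullback.snd g.left c.left)
  have i4 : Etale X'.hom := hc
  let Y' : Over Y.left := Over.mk (𝟙 Y.left)
  let θ : (Over.pullback q).obj Y' ⟶ (Over.pullback q).obj X' :=
    Over.homMk (pullback.lift (pullback.snd (𝟙 Y.left) q ≫ s) (pullback.snd (𝟙 Y.left) q) (by
      change (_ ≫ s) ≫ pullback.snd g.left c.left = _
      rw [Category.assoc, hs])) (pullback.lift_snd _ _ _)
  obtain ⟨φ, hφ⟩ := (Groth.Agent.S0076.result q X' Y').2 θ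
  have hφ1 : φ.left ≫ pullback.snd g.left c.left = 𝟙 _ := Over.w φ
  have hφ2 : q ≫ φ.left = s := by
    have e1 : ((Over.pullback q).map φ).left ≫ pullback.fst (pullback.snd g.left c.left) q =
        pullback.fst (𝟙 Y.left) q ≫ φ.left := pullback.lift_fst _ _ _
    rw [show (Over.pullback q).map φ = θ from hφ] at e1
    have e2 : θ.left ≫ pullback.fst (pullback.snd g.left c.left) q = pullback.snd (𝟙 Y.left) q ≫ s :=
      pullback.lift_fst _ _ _
    rw [e2] at e1
    have e3 := congrArg (fun t => pullback.lift q (𝟙 _) (by simp) ≫ t) e1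
    rw [pullback.lift_snd_assoc, pullback.lift_fst_assoc, Category.id_comp] at e3
    exact e3.symm
  refine ⟨Over.homMk (φ.left ≫ pullback.fst g.left c.left) ?_, ?_⟩
  · have e1 : A.hom = g.left ≫ B.hom := (Over.w g).symm
    rw [e1, Category.assoc, pullback.condition_assoc, ← Category.assoc, hφ1]
    exact (Category.id_comp _).trans (Over.w c)
  · rw [← hb₂, ← whiskerRight_snd (toNrm G) Y, Category.assoc]
    congr 1
    apply Over.OverMorphism.ext
    change q ≫ φ.left ≫ pullback.fst g.left c.left = b₁.left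
    rw [← Category.assoc, hφ2, pullback.lift_fst]

end K630.AbExt
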