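import Groth.Agent.AbSch.K630.SpreadU
import Groth.Agent.AbSch.K788.RedCpl
import Groth.Agent.AbSch.K821.Diff
import Groth.Agent.TateLoc.K114.ConnFin

/-!
# `n`-splittings over a complete reduced noetherian local ring

`B` a complete reduced noetherian local ring, `T` a torus, `A` proper, `D` an extension.
* `Dat.ns_formal`: `D` is `n`-split if it is `n`-split over all the `Spec (B / m ^ k)` and over all the discrete
  valuation rings which are local over `B`.
-/

set_option autoImplicit false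
universe u
open CategoryTheory CategoryTheory.Limits MonoidalCategory CartesianMonoidalCategory MonObj AlgebraicGeometry Opposite

noncomputable section

namespace K630.AbExt

open Groth.Agent.Etdl.H432.Sec K452.HomPts K771.HomEv

lemma surjective_of_closedPoint {B : Type u} [CommRing B] [IsLocalRing B] {Z : Scheme.{u}}
    (f : Z ⟶ Spec (CommRingCat.of B)) [Flat f] (z : Z) (hz : f z = IsLocalRing.closedPoint B) : Surjective f := by
  refine ⟨fun y => ?_⟩
  have h1 : y ⤳ f z := by
    rw [hz]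
    exact (PrimeSpectrum.le_iff_specializes _ _).mp (IsLocalRing.le_maximalIdeal y.2.ne_top)
  obtain ⟨z', -, hz'⟩ := Flat.generalizingMap f h1
  exact ⟨z', hz'⟩

namespace Dat

variable {B : Type u} [CommRing B] [IsLocalRing B] [IsNoetherianRing B] {T A : Over (Spec (CommRingCat.of B))}
  [GrpObj T] [IsCommMonObj T] [GrpObj A] [IsCommMonObj A]

theorem ns_formal [IsAdicComplete (IsLocalRing.maximalIdeal B) B] [_root_.IsReduced B] (hT : Red.IsTorus T) [Smooth T.hom]
    [GeometricallyIrreducible T.hom] [IsSeparated T.hom] [IsProper A.hom] (D : Dat T A)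
    {G : Type u} [CommRing G] {ga : B →+* G} (p : sp ga ⟶ T) [Smooth p.left] [Surjective p.left]
    (e : Γs D.E (sp ga)) (he : m D.q _ e = sec p) {n : ℕ}
    (hk : ∀ k : ℕ, D.NS n (sp (Ideal.Quotient.mk (IsLocalRing.maximalIdeal B ^ k))))
    (hR : ∀ (R : Type u) [CommRing R] [IsDomain R] [IsDiscreteValuationRing R] (φ : B →+* R), IsLocalHom φ →
      D.NS n (sp φ)) : D.NS n (𝟙_ _) := by
  by_cases hB : ∀ 𝔭 : Mn B, 𝔭.1 ≠ IsLocalRing.maximalIdeal B
  swap
  · -- `B` is a field
    push Not at hB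
    obtain ⟨𝔭, h𝔭⟩ := hB
    have h1 : IsLocalRing.maximalIdeal B ≤ nilradical B := by
      rw [nilradical_eq_sInf]
      refine le_sInf fun q hq => ?_
      rw [← h𝔭]
      exact 𝔭.2.2 ⟨hq, bot_le⟩ ((IsLocalRing.le_maximalIdeal (Ideal.IsPrime.ne_top hq)).trans h𝔭.ge)
    have h2 : IsLocalRing.maximalIdeal B = ⊥ := by
      rw [nilradical_eq_zero] at h1
      exact le_bot_iff.mp h1
    have h3 : Function.Bijective (Ideal.Quotient.mk (IsLocalRing.maximalIdeal B ^ 1)) := by
      refine ⟨?_, Ideal.Quotient.mk_surjective⟩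
      rw [RingHom.injective_iff_ker_eq_bot, Ideal.mk_ker, pow_one, h2]
    let ε : B ≃+* B ⧸ IsLocalRing.maximalIdeal B ^ 1 := RingEquiv.ofBijective _ h3
    have h4 : D.NS n (sp (RingHom.id B)) := (hk 1).restrict (spm (ε.symm : _ →+* B) (by
      ext x
      exact ε.symm_apply_apply x))
    refine h4.restrict (Over.homMk (𝟙 _) ?_)
    change 𝟙 _ ≫ Spec.map (CommRingCat.ofHom (RingHom.id B)) = 𝟙 _
    rw [CommRingCat.ofHom_id]
    rw [Spec.map_id, Category.id_comp]
  -- the main case
  have hns : ∀ 𝔭 : Mn B, D.NS n (mnp 𝔭) := fun 𝔭 => ns_mnp hR 𝔭 (hB 𝔭)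
  let X : Over (Spec (CommRingCat.of B)) := sp ga
  have hXsm : Smooth X.hom := by
    rw [← Over.w p]
    infer_instance
  have hXred : IsReduced X.left := K114.ConnFin.red_of_smooth X.hom
  have hGred : _root_.IsReduced G := by
    have : IsReduced (Spec (CommRingCat.of G)) := hXred
    exact (affine_isReduced_iff (CommRingCat.of G)).mp this
  have hft : ga.FiniteType := by
    have h1 : LocallyOfFiniteType (Spec.map (CommRingCat.ofHom ga)) := by
      change LocallyOfFiniteType X.hom
      infer_instance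
    exact (HasRingHomProperty.Spec_iff (P := @LocallyOfFiniteType)).mp h1
  have hflat : ga.Flat := by
    have h1 : Flat (Spec.map (CommRingCat.ofHom ga)) := by
      change Flat X.hom
      infer_instance
    exact Flat.SpecMap_iff.mp h1
  algebraize [ga]
  have hGN : IsNoetherianRing G := Algebra.FiniteType.isNoetherianRing B G
  -- a point over the closed point
  let t₀ : T.left := (η[T] : 𝟙_ _ ⟶ T).left (IsLocalRing.closedPoint B)
  obtain ⟨x, hx⟩ := p.left.surjective t₀
  have hxs : X.hom x = IsLocalRing.closedPoint B := by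
    rw [← Over.w p, Scheme.Hom.comp_apply, hx]
    change T.hom ((η[T] : 𝟙_ _ ⟶ T).left (IsLocalRing.closedPoint B)) = _
    rw [← Scheme.Hom.comp_apply, Over.w]
    rfl
  let 𝔵 : PrimeSpectrum G := x
  obtain ⟨O, i1, i2, i3, i4, i5, hOc, hOf, hOr⟩ := K788.RedCpl.exists_completion B G 𝔵.asIdeal
  let St := (Spec (CommRingCat.of G)).presheaf.stalk x
  let ε : Localization.AtPrime 𝔵.asIdeal ≃+* St := (StructureSheaf.stalkIso G 𝔵).toRingEquiv
  have hε : ∀ g : G, ε (algebraMap G _ g) = StructureSheaf.toStalk G 𝔵 g := fun g =>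
    (StructureSheaf.stalkIso G 𝔵).commutes g
  let cr : St →+* O := (algebraMap (Localization.AtPrime 𝔵.asIdeal) O).comp (ε.symm : St →+* Localization.AtPrime 𝔵.asIdeal)
  have hcr1 : IsLocalHom cr := RingHom.isLocalHom_comp _ _
  have hcr2 : cr.Flat := RingHom.Flat.comp (RingHom.Flat.of_bijective ε.symm.bijective)
    (RingHom.flat_algebraMap_iff.mpr hOf)
  have hcr3 : cr.FaithfullyFlat := by
    let _ : Algebra St O := cr.toAlgebra
    have h1 : Module.Flat St O := hcr2
    have h2 : IsLocalHom (algebraMap St O) := hcr1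
    exact @Module.FaithfullyFlat.of_flat_of_isLocalHom St O _ _ _ _ _ h1 h2
  have hcr4 := (flat_and_surjective_SpecMap_iff (CommRingCat.ofHom cr)).mpr hcr3
  let φ : B →+* O := cr.comp ((StructureSheaf.toStalk G 𝔵).hom.comp ga)
  have hφ' : φ = (algebraMap (Localization.AtPrime 𝔵.asIdeal) O).comp ((algebraMap G _).comp ga) := by
    ext b
    change algebraMap (Localization.AtPrime 𝔵.asIdeal) O (ε.symm (StructureSheaf.toStalk G 𝔵 (ga b))) = _
    rw [← hε, ε.symm_apply_apply]
    rfl
  have hφ : IsLocalHom φ := by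
    rw [hφ']
    refine @RingHom.isLocalHom_comp _ _ _ _ _ _ _ _ i5 ⟨fun b hb => ?_⟩
    have h1 : ga b ∉ 𝔵.asIdeal := by
      intro hmem
      have h2 : algebraMap G (Localization.AtPrime 𝔵.asIdeal) (ga b) ∈
          IsLocalRing.maximalIdeal (Localization.AtPrime 𝔵.asIdeal) := by
        rw [← Localization.AtPrime.map_eq_maximalIdeal]
        exact Ideal.mem_map_of_mem _ hmem
      exact (IsLocalRing.mem_maximalIdeal _).mp h2 hb
    by_contra hb'
    apply h1
    have h3 : b ∈ IsLocalRing.maximalIdeal B := (IsLocalRing.mem_maximalIdeal _).mpr hb'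
    have h4 : (X.hom x).asIdeal = IsLocalRing.maximalIdeal B := by rw [hxs]; rfl
    rw [← h4] at h3
    exact h3
  let Y : Over (Spec (CommRingCat.of B)) := sp φ
  have hst : X.left.fromSpecStalk x = Spec.map (StructureSheaf.toStalk G 𝔵) := Spec.fromSpecStalk_eq' _ _
  let c : Y ⟶ stk X x := Over.homMk (Spec.map (CommRingCat.ofHom cr)) (by
    change Spec.map (CommRingCat.ofHom cr) ≫ X.left.fromSpecStalk x ≫ Spec.map (CommRingCat.ofHom ga) =
      Spec.map (CommRingCat.ofHom φ)
    refine (congrArg (fun t => Spec.map (CommRingCat.ofHom cr) ≫ t ≫ Spec.map (CommRingCat.ofHom ga)) hst).trans ?_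
    exact (congrArg (fun t => Spec.map (CommRingCat.ofHom cr) ≫ t)
      (Spec.map_comp (CommRingCat.ofHom ga) (StructureSheaf.toStalk G 𝔵)).symm).trans
      (Spec.map_comp (CommRingCat.ofHom ga ≫ StructureSheaf.toStalk G 𝔵) (CommRingCat.ofHom cr)).symm)
  have hc1 : Flat c.left := hcr4.1
  have hc2 : Surjective c.left := hcr4.2
  have hc3 : QuasiCompact c.left := by
    change QuasiCompact (Spec.map (CommRingCat.ofHom cr))
    infer_instance
  have hYf : Flat Y.hom := by
    rw [← Over.w c]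
    have h1 : Flat (stk X x).hom := by
      change Flat (X.left.fromSpecStalk x ≫ X.hom)
      infer_instance
    infer_instance
  obtain ⟨α, hα⟩ := exists_alpha hT hk p e he hφ (c ≫ stkι X x)
  have hα' : ∀ 𝔭 : Mn B, D.Good n (r D.E (fst Y (mnp 𝔭)) (n • r D.E (c ≫ stkι X x) e - m D.i _ (sec α)))
      (fst Y (mnp 𝔭) ≫ (c ≫ stkι X x) ≫ p) := fun 𝔭 =>
    good_minimal hT hR hφ (by rw [map_sub, map_nsmul, m_r, he, q_i, sub_zero, r_sec]) hα 𝔭 (hB 𝔭) (hns 𝔭)
  obtain ⟨α₀, -, hα₀⟩ := exists_desc_alpha hT (dense_mn (B := B)) p e c (stkι X x) α hns hα'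
  have hXN : IsLocallyNoetherian X.left := by
    change IsLocallyNoetherian (Spec (CommRingCat.of G))
    infer_instance
  have hmf : ∀ 𝔭 : Mn B, Flat (mnp 𝔭).hom := fun 𝔭 => by
    change Flat (Spec.map (CommRingCat.ofHom (algebraMap B (Localization.AtPrime 𝔭.1))))
    rw [Flat.SpecMap_iff]
    exact RingHom.flat_algebraMap_iff.mpr (IsLocalization.flat _ 𝔭.1.primeCompl)
  have hms : ∀ 𝔭 : Mn B, IsSeparated (mnp 𝔭).hom := fun 𝔭 => by
    change IsSeparated (Spec.map (CommRingCat.ofHom (algebraMap B (Localization.AtPrime 𝔭.1))))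
    infer_instance
  obtain ⟨Z, z, α₁, hz1, hz2, ⟨x', hz3⟩, hα₁⟩ := exists_spread hT p e he x α₀ hmf hms hns hα₀
  choose τ hτ using hns
  have hzs : Smooth (z ≫ p).left := by
    rw [Over.comp_left]
    infer_instance
  have hZf : Flat Z.hom := by
    rw [← Over.w z]
    infer_instance
  have hZs : Surjective Z.hom := surjective_of_closedPoint Z.hom x' (by
    rw [← Over.w z, Scheme.Hom.comp_apply, hz3, hxs])
  obtain ⟨hd1, hd2⟩ := K821.Diff.diff_fppf (z ≫ p)
  exact ns_of_dense_translate (D := D) (dense_mn (B := B)) (z ≫ p) (n • r D.E z e - m D.i _ (sec α₁)) (by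
      rw [map_sub, map_nsmul, m_r, he, q_i, sub_zero, r_sec]) τ (fun 𝔭 => (hα₁ 𝔭).eq_ev hT (hτ 𝔭) _)

end Dat

end K630.AbExt
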