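import Groth.Agent.AbSch.K630.Fpqc
import Groth.Agent.Ega43.DvrScheme
import Groth.Agent.AbSch.K478.RedExt

/-!
# Values of `n`-splittings

`D` an extension of `T` by `A` over `S`, `V` an `S`-scheme, `y : V ⟶ T`.
* `D.Good n s y`: the section `s` of the extension over `V` is the value at `y` of an `n`-splitting over `V`;
* `Good.unique`, `Good.restrict`;
* `good_of_points`, `good_of_trunc`: checking on points of a reduced scheme, on truncations of a noetherian
  local ring;
* `good_of_dvr`: a section over a noetherian local `O` which is good on all truncations is good at all the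
  points of `Spec O` other than the closed point if `n`-splittings exist over discrete valuation rings.
-/

set_option autoImplicit false
universe u
open CategoryTheory CategoryTheory.Limits MonoidalCategory CartesianMonoidalCategory MonObj AlgebraicGeometry Opposite

noncomputable section

namespace K630.AbExt

open Groth.Agent.Etdl.H432.Sec K452.HomPts K771.HomEv

open K478.RedExt (hom_ext_of_reduced hom_ext_of_noetherian_local)

/-- The spectrum of a `B`-algebra as an object over `Spec B`. -/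
abbrev sp {B R : Type u} [CommRing B] [CommRing R] (φ : B →+* R) : Over (Spec (CommRingCat.of B)) :=
  Over.mk (Spec.map (CommRingCat.ofHom φ))

/-- Morphisms between spectra. -/
def spm {B R R' : Type u} [CommRing B] [CommRing R] [CommRing R'] {φ : B →+* R} {φ' : B →+* R'} (ψ : R →+* R')
    (h : ψ.comp φ = φ') : sp φ' ⟶ sp φ :=
  Over.homMk (Spec.map (CommRingCat.ofHom ψ)) (by
    change Spec.map (CommRingCat.ofHom ψ) ≫ Spec.map (CommRingCat.ofHom φ) = Spec.map (CommRingCat.ofHom φ')
    rw [← Spec.map_comp, ← CommRingCat.ofHom_comp, h])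

lemma spm_left {B R R' : Type u} [CommRing B] [CommRing R] [CommRing R'] {φ : B →+* R} {φ' : B →+* R'} (ψ : R →+* R')
    (h : ψ.comp φ = φ') : (spm ψ h).left = Spec.map (CommRingCat.ofHom ψ) := rfl

lemma spm_spm {B R R' R'' : Type u} [CommRing B] [CommRing R] [CommRing R'] [CommRing R''] {φ : B →+* R}
    {φ' : B →+* R'} {φ'' : B →+* R''} (ψ : R →+* R') (h : ψ.comp φ = φ') (ψ' : R' →+* R'') (h' : ψ'.comp φ' = φ'') :
    spm ψ' h' ≫ spm ψ h = spm (ψ'.comp ψ) (by rw [RingHom.comp_assoc, h, h']) := by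
  apply Over.OverMorphism.ext
  rw [Over.comp_left, spm_left, spm_left, spm_left, ← Spec.map_comp, ← CommRingCat.ofHom_comp]

lemma spm_congr {B R R' : Type u} [CommRing B] [CommRing R] [CommRing R'] {φ : B →+* R} {φ' : B →+* R'}
    {ψ ψ' : R →+* R'} (h : ψ.comp φ = φ') (e : ψ = ψ') : spm ψ h = spm ψ' (by rw [← e, h]) := by
  subst e
  rfl

variable {S : Scheme.{u}} {T A : Over S} [GrpObj T] [IsCommMonObj T] [GrpObj A] [IsCommMonObj A]

namespace Dat

section General

variable (D : Dat T A)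

/-- `s` is the value at `y` of an `n`-splitting. -/
def Good (n : ℕ) {V : Over S} (s : Γs D.E V) (y : V ⟶ T) : Prop :=
  ∃ σ : Γs D.H V, D.IsNS n σ ∧ s = ev σ (𝟙 V) (sec y)

variable {D}

theorem Good.restrict {n : ℕ} {V V' : Over S} {s : Γs D.E V} {y : V ⟶ T} (h : D.Good n s y) (k : V' ⟶ V) :
    D.Good n (r D.E k s) (k ≫ y) := by
  obtain ⟨σ, hσ, rfl⟩ := h
  refine ⟨r D.H k σ, hσ.restrict k, ?_⟩
  rw [ev_r', ev_r, r_sec, Category.comp_id, Category.id_comp]

theorem Good.unique (hT : Red.IsTorus T) [IsProper A.hom] {n : ℕ} {V : Over S} {s s' : Γs D.E V} {y : V ⟶ T}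
    (h : D.Good n s y) (h' : D.Good n s' y) : s = s' := by
  obtain ⟨σ, hσ, rfl⟩ := h
  obtain ⟨σ', hσ', rfl⟩ := h'
  rw [hσ.unique hT hσ']

theorem Good.eq_ev (hT : Red.IsTorus T) [IsProper A.hom] {n : ℕ} {V : Over S} {s : Γs D.E V} {y : V ⟶ T}
    (h : D.Good n s y) {V' : Over S} {τ : Γs D.H V'} (hτ : D.IsNS n τ) (k : V ⟶ V') : s = ev τ k (sec y) := by
  refine h.unique hT ⟨r D.H k τ, hτ.restrict k, ?_⟩
  rw [ev_r, Category.id_comp]

theorem good_ev {n : ℕ} {V V' : Over S} {τ : Γs D.H V'} (hτ : D.IsNS n τ) (k : V ⟶ V') (y : V ⟶ T) :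
    D.Good n (ev τ k (sec y)) y := by
  refine ⟨r D.H k τ, hτ.restrict k, ?_⟩
  rw [ev_r, Category.id_comp]

theorem Good.q {n : ℕ} {V : Over S} {s : Γs D.E V} {y : V ⟶ T} (h : D.Good n s y) : m D.q V s = n • sec y := by
  obtain ⟨σ, hσ, rfl⟩ := h
  exact hσ _ _ _

/-- A section is good if it agrees with the value of the splitting on a family along which morphisms to `A` are
determined. -/
theorem good_of_ext (hT : Red.IsTorus T) [IsProper A.hom] {n : ℕ} {V : Over S} {s : Γs D.E V} {y : V ⟶ T}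
    (hq : m D.q V s = n • sec y) (hV : D.NS n V) {I : Type*} (W : I → Over S) (k : ∀ i, W i ⟶ V)
    (hext : ∀ a b : V ⟶ A, (∀ i, k i ≫ a = k i ≫ b) → a = b) (hg : ∀ i, D.Good n (r D.E (k i) s) (k i ≫ y)) :
    D.Good n s y := by
  obtain ⟨σ, hσ⟩ := hV
  refine ⟨σ, hσ, ?_⟩
  have hg' : D.Good n (ev σ (𝟙 V) (sec y)) y := ⟨σ, hσ, rfl⟩
  obtain ⟨a, ha⟩ := D.exists_i (s - ev σ (𝟙 V) (sec y)) (by rw [map_sub, hq, hσ, sub_self])
  have h1 : a = 0 := by
    apply pt_injective
    apply hext
    intro i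
    rw [← pt_r, ← pt_r]
    congr 1
    apply D.i_inj
    rw [m_r, m_r, ha, map_zero, map_zero, map_sub, (hg i).unique hT (hg'.restrict (k i)), sub_self]
  rw [h1, map_zero] at ha
  exact sub_eq_zero.mp ha.symm

/-- Checking on the points of a reduced scheme. -/
theorem good_of_points (hT : Red.IsTorus T) [IsProper A.hom] {n : ℕ} {V : Over S} [IsReduced V.left]
    {s : Γs D.E V} {y : V ⟶ T} (hq : m D.q V s = n • sec y) (hV : D.NS n V)
    (h : ∀ v : V.left, D.Good n (r D.E (Over.homMk (V.left.fromSpecResidueField v) : Over.mk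
      (V.left.fromSpecResidueField v ≫ V.hom) ⟶ V) s) ((Over.homMk (V.left.fromSpecResidueField v) : Over.mk
      (V.left.fromSpecResidueField v ≫ V.hom) ⟶ V) ≫ y)) : D.Good n s y := by
  refine good_of_ext hT hq hV _ (fun v => (Over.homMk (V.left.fromSpecResidueField v) : Over.mk
      (V.left.fromSpecResidueField v ≫ V.hom) ⟶ V)) (fun a b hab => ?_) h
  refine hom_ext_of_reduced a b fun v => ?_
  exact congrArg (fun t => t.left) (hab v)

end General

section Ring

variable {B : Type u} [CommRing B] {T A : Over (Spec (CommRingCat.of B))} [GrpObj T] [IsCommMonObj T]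
  [GrpObj A] [IsCommMonObj A] {D : Dat T A}

/-- Checking on the truncations of a noetherian local ring. -/
theorem good_of_trunc (hT : Red.IsTorus T) [IsProper A.hom] {n : ℕ} {R : Type u} [CommRing R] [IsLocalRing R]
    [IsNoetherianRing R] {φ : B →+* R} {s : Γs D.E (sp φ)} {y : sp φ ⟶ T} (hq : m D.q _ s = n • sec y)
    (hV : D.NS n (sp φ)) (h : ∀ k : ℕ, D.Good n
      (r D.E (spm (Ideal.Quotient.mk (IsLocalRing.maximalIdeal R ^ k)) rfl) s)
      (spm (Ideal.Quotient.mk (IsLocalRing.maximalIdeal R ^ k)) rfl ≫ y)) : D.Good n s y := by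
  refine good_of_ext hT hq hV (fun k : ℕ => sp ((Ideal.Quotient.mk (IsLocalRing.maximalIdeal R ^ k)).comp φ))
    (fun k => spm (Ideal.Quotient.mk (IsLocalRing.maximalIdeal R ^ k)) rfl) (fun a b hab => ?_) h
  refine hom_ext_of_noetherian_local _ a b fun k => ?_
  exact congrArg (fun t => t.left) (hab k)

/-- A section which is good on the truncations is good outside of the closed point. -/
theorem good_of_dvr (hT : Red.IsTorus T) [IsProper A.hom] [IsLocalRing B] {n : ℕ}
    (hR : ∀ (R : Type u) [CommRing R] [IsDomain R] [IsDiscreteValuationRing R] (φ : B →+* R), IsLocalHom φ →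
      D.NS n (sp φ))
    {O : Type u} [CommRing O] [IsLocalRing O] [IsNoetherianRing O] {φ : B →+* O} (hφ : IsLocalHom φ)
    {s : Γs D.E (sp φ)} {y : sp φ ⟶ T} (hq : m D.q _ s = n • sec y) (h : ∀ k : ℕ, D.Good n
      (r D.E (spm (Ideal.Quotient.mk (IsLocalRing.maximalIdeal O ^ k)) rfl) s)
      (spm (Ideal.Quotient.mk (IsLocalRing.maximalIdeal O ^ k)) rfl ≫ y))
    {K : Type u} [Field K] (θ : O →+* K) (hθ : RingHom.ker θ ≠ IsLocalRing.maximalIdeal O) {φ' : B →+* K}
    (hφ' : θ.comp φ = φ') :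
    D.Good n (r D.E (spm θ hφ') s) (spm θ hφ' ≫ y) := by
  have hprime : (RingHom.ker θ).IsPrime := RingHom.ker_isPrime θ
  let L := FractionRing (O ⧸ RingHom.ker θ)
  let ψ : O →+* L := (algebraMap (O ⧸ RingHom.ker θ) L).comp (Ideal.Quotient.mk (RingHom.ker θ))
  have hψ : RingHom.ker ψ = RingHom.ker θ := by
    rw [← RingHom.comap_ker, (RingHom.injective_iff_ker_eq_bot _).mp (IsFractionRing.injective _ L), ← RingHom.ker_eq_comap_bot,
      Ideal.mk_ker]
  have hft : ψ.EssFiniteType :=
    (RingHom.FiniteType.essFiniteType (RingHom.FiniteType.of_surjective _ Ideal.Quotient.mk_surjective)).comp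
      (RingHom.essFiniteType_algebraMap.mpr
        (Algebra.EssFiniteType.of_isLocalization (S := L) (nonZeroDivisors (O ⧸ RingHom.ker θ))))
  obtain ⟨R, i1, i2, i3, i4, i5, g, hg, hgψ⟩ :=
    Groth.Agent.Ega43.DvrScheme.exists_dvr_of_ringHom O L ψ hft (by rw [hψ]; exact hθ)
  have hloc : IsLocalHom (g.comp φ) := RingHom.isLocalHom_comp _ _
  have hgood : D.Good n (r D.E (spm g (rfl : g.comp φ = g.comp φ)) s) (spm g rfl ≫ y) := by
    refine good_of_trunc hT (by rw [m_r, hq, map_nsmul, r_sec]) (hR R (g.comp φ) hloc) fun k => ?_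
    have hle : IsLocalRing.maximalIdeal O ^ k ≤ (IsLocalRing.maximalIdeal R ^ k).comap g := by
      rw [← Ideal.map_le_iff_le_comap, Ideal.map_pow]
      exact Ideal.pow_right_mono (((IsLocalRing.local_hom_TFAE g).out 0 2).mp hg) k
    have h1 := (h k).restrict (spm (φ' := (Ideal.Quotient.mk (IsLocalRing.maximalIdeal R ^ k)).comp (g.comp φ))
      (Ideal.quotientMap (IsLocalRing.maximalIdeal R ^ k) g hle) rfl)
    rw [r_r, ← Category.assoc, spm_spm] at h1
    rw [r_r, ← Category.assoc, spm_spm]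
    exact h1
  -- the map to `K`
  have hinj : Function.Injective (RingHom.kerLift θ) := RingHom.kerLift_injective θ
  let ll : L →+* K := IsFractionRing.lift hinj
  have h2 : (ll.comp (algebraMap R L)).comp g = θ := by
    rw [RingHom.comp_assoc, hgψ]
    ext x
    exact IsFractionRing.lift_algebraMap hinj _
  have h3 := hgood.restrict (spm (φ' := φ') (ll.comp (algebraMap R L)) (by rw [← RingHom.comp_assoc, h2, hφ']))
  rw [r_r, ← Category.assoc, spm_spm, spm_congr _ h2] at h3
  exact h3

end Ring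

end Dat

end K630.AbExt
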