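import Groth.Agent.AbSch.K630.Good
import Groth.Agent.SGA3x.K13.AdicHom

/-!
# The generic points of a reduced noetherian local ring

`B` a reduced noetherian local ring, `mnp 𝔭 = Spec B_𝔭` for the minimal primes `𝔭` of `B`.
* `dense_mn`: the family of the `mnp 𝔭` is dense;
* `Dat.ns_mnp`: an extension which is `n`-split over all dominating discrete valuation rings is `n`-split over
  the `mnp 𝔭`;
* `Dat.exists_alpha`: `n`-splittings over the `Spec (B / m ^ k)` and a complete local `B`-algebra `O`;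
* `Dat.good_minimal`: agreement over `Spec O ⊗ mnp 𝔭`.
-/

set_option autoImplicit false
universe u
open CategoryTheory CategoryTheory.Limits MonoidalCategory CartesianMonoidalCategory MonObj AlgebraicGeometry Opposite

noncomputable section

namespace K630.AbExt

open Groth.Agent.Etdl.H432.Sec K452.HomPts K771.HomEv

section

variable (B : Type u) [CommRing B]

/-- The minimal primes. -/
abbrev Mn := {𝔭 : Ideal B // 𝔭 ∈ minimalPrimes B}

instance isPrime_mn (𝔭 : Mn B) : 𝔭.1.IsPrime := 𝔭.2.1.1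

end

variable {B : Type u} [CommRing B]

/-- The spectrum of the localization at a minimal prime. -/
abbrev mnp (𝔭 : Mn B) : Over (Spec (CommRingCat.of B)) := sp (algebraMap B (Localization.AtPrime 𝔭.1))

lemma mem_of_map_eq_zero (𝔭 : Ideal B) [𝔭.IsPrime] (x : B) (h : algebraMap B (Localization.AtPrime 𝔭) x = 0) : x ∈ 𝔭 := by
  by_contra hx
  have h1 : IsUnit (algebraMap B (Localization.AtPrime 𝔭) x) := IsLocalization.map_units _ (⟨x, hx⟩ : 𝔭.primeCompl)
  rw [h] at h1
  exact not_isUnit_zero h1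

lemma dense_mn [IsNoetherianRing B] [_root_.IsReduced B] : Dense (fun 𝔭 : Mn B => mnp 𝔭) := by
  have : Finite (Mn B) := (minimalPrimes.finite_of_isNoetherianRing B).to_subtype
  refine dense_spec (fun 𝔭 : Mn B => Localization.AtPrime 𝔭.1) (fun 𝔭 => algebraMap B _) fun x hx => ?_
  have h1 : x ∈ sInf (minimalPrimes B) := by
    rw [Submodule.mem_sInf]
    intro 𝔭 h𝔭
    have := h𝔭.1.1
    exact mem_of_map_eq_zero 𝔭 x (hx ⟨𝔭, h𝔭⟩)
  have h2 : x ∈ nilradical B := by
    have h3 : nilradical B = sInf (minimalPrimes B) := (Ideal.sInf_minimalPrimes (I := (⊥ : Ideal B))).symm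
    rw [h3]
    exact h1
  exact (mem_nilradical.mp h2).eq_zero

lemma bijective_residue [_root_.IsReduced B] (𝔭 : Mn B) :
    Function.Bijective (IsLocalRing.residue (Localization.AtPrime 𝔭.1)) := by
  have h1 : IsLocalRing.maximalIdeal (Localization.AtPrime 𝔭.1) = ⊥ := by
    have h2 := IsLocalization.AtPrime.radical_map_of_mem_minimalPrimes (A := Localization.AtPrime 𝔭.1) 𝔭.1 ⊥ 𝔭.2
    rw [Ideal.map_bot, Localization.AtPrime.map_eq_maximalIdeal] at h2
    rw [← h2]
    have : (⊥ : Ideal (Localization.AtPrime 𝔭.1)).radical = nilradical _ := rfl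
    rw [this, nilradical_eq_zero]
    rfl
  refine ⟨?_, IsLocalRing.residue_surjective⟩
  rw [RingHom.injective_iff_ker_eq_bot, IsLocalRing.ker_residue, h1]

namespace Dat

variable {T A : Over (Spec (CommRingCat.of B))} [GrpObj T] [IsCommMonObj T]
  [GrpObj A] [IsCommMonObj A] {D : Dat T A}

/-- `n`-splittings at the generic points. -/
theorem ns_mnp [IsLocalRing B] [IsNoetherianRing B] [_root_.IsReduced B] {n : ℕ}
    (hR : ∀ (R : Type u) [CommRing R] [IsDomain R] [IsDiscreteValuationRing R] (φ : B →+* R), IsLocalHom φ →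
      D.NS n (sp φ)) (𝔭 : Mn B) (h𝔭 : 𝔭.1 ≠ IsLocalRing.maximalIdeal B) : D.NS n (mnp 𝔭) := by
  let L := IsLocalRing.ResidueField (Localization.AtPrime 𝔭.1)
  let e : Localization.AtPrime 𝔭.1 ≃+* L := RingEquiv.ofBijective _ (bijective_residue 𝔭)
  let ψ : B →+* L := (e : Localization.AtPrime 𝔭.1 →+* L).comp (algebraMap B (Localization.AtPrime 𝔭.1))
  have hψ : RingHom.ker ψ = 𝔭.1 := by
    refine le_antisymm (fun x hx => ?_) (fun x hx => ?_)
    · refine mem_of_map_eq_zero 𝔭.1 x (e.injective ?_)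
      rw [map_zero]
      exact hx
    · have h1 : algebraMap B (Localization.AtPrime 𝔭.1) x ∈ IsLocalRing.maximalIdeal (Localization.AtPrime 𝔭.1) := by
        rw [← Localization.AtPrime.map_eq_maximalIdeal]
        exact Ideal.mem_map_of_mem _ hx
      rw [RingHom.mem_ker]
      change IsLocalRing.residue _ (algebraMap B (Localization.AtPrime 𝔭.1) x) = 0
      rwa [IsLocalRing.residue_eq_zero_iff]
  have hft : ψ.EssFiniteType :=
    RingHom.EssFiniteType.comp (RingHom.essFiniteType_algebraMap.mpr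
        (Algebra.EssFiniteType.of_isLocalization (S := Localization.AtPrime 𝔭.1) 𝔭.1.primeCompl))
      (RingHom.FiniteType.essFiniteType (RingHom.FiniteType.of_surjective _ e.surjective))
  obtain ⟨R, i1, i2, i3, i4, i5, g, hg, hgψ⟩ :=
    Groth.Agent.Ega43.DvrScheme.exists_dvr_of_ringHom B L ψ hft (by rw [hψ]; exact h𝔭)
  refine (hR R g hg).restrict (spm ((e.symm : L →+* Localization.AtPrime 𝔭.1).comp (algebraMap R L)) ?_)
  rw [RingHom.comp_assoc, hgψ]
  ext x
  exact e.symm_apply_apply _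

/-- Formal sections over a complete local ring. -/
theorem exists_alpha [IsLocalRing B] (hT : Red.IsTorus T) [IsProper A.hom] {n : ℕ}
    (hk : ∀ k : ℕ, D.NS n (sp (Ideal.Quotient.mk (IsLocalRing.maximalIdeal B ^ k))))
    {X : Over (Spec (CommRingCat.of B))} (p : X ⟶ T) (e : Γs D.E X) (he : m D.q X e = sec p)
    {O : Type u} [CommRing O] [IsLocalRing O] [IsNoetherianRing O] [IsAdicComplete (IsLocalRing.maximalIdeal O) O]
    {φ : B →+* O} (hφ : IsLocalHom φ) (x : sp φ ⟶ X) :
    ∃ α : sp φ ⟶ A, ∀ k : ℕ, D.Good n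
      (r D.E (spm (Ideal.Quotient.mk (IsLocalRing.maximalIdeal O ^ k)) rfl) (n • r D.E x e - m D.i _ (sec α)))
      (spm (Ideal.Quotient.mk (IsLocalRing.maximalIdeal O ^ k)) rfl ≫ x ≫ p) := by
  have hle : ∀ k : ℕ, IsLocalRing.maximalIdeal B ^ k ≤ (IsLocalRing.maximalIdeal O ^ k).comap φ := by
    intro k
    rw [← Ideal.map_le_iff_le_comap, Ideal.map_pow]
    exact Ideal.pow_right_mono (((IsLocalRing.local_hom_TFAE φ).out 0 2).mp hφ) k
  let Y : ℕ → Over (Spec (CommRingCat.of B)) := fun k => sp ((Ideal.Quotient.mk (IsLocalRing.maximalIdeal O ^ k)).comp φ)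
  let j : ∀ k, Y k ⟶ sp φ := fun k => spm (Ideal.Quotient.mk (IsLocalRing.maximalIdeal O ^ k)) rfl
  have hY : ∀ k, D.NS n (Y k) := fun k => (hk k).restrict (spm (Ideal.quotientMap _ φ (hle k)) rfl)
  choose σ hσ using hY
  have h1 : ∀ k, ∃ a : Γs (P A) (Y k), m D.i _ a = n • r D.E (j k ≫ x) e - ev (σ k) (𝟙 _) (sec (j k ≫ x ≫ p)) := by
    intro k
    apply D.exists_i
    rw [map_sub, map_nsmul, m_r, he, hσ, r_sec, Category.assoc, sub_self]
  choose a ha using h1
  let t : ∀ k, Y k ⟶ Y (k + 1) := fun k => spm (Ideal.Quotient.factor (Ideal.pow_le_pow_right (Nat.le_succ k))) rfl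
  have htj : ∀ k, t k ≫ j (k + 1) = j k := fun k => spm_spm _ _ _ _
  have hta : ∀ k, t k ≫ pt (a (k + 1)) = pt (a k) := by
    intro k
    rw [← pt_r]
    congr 1
    apply D.i_inj
    rw [m_r, ha, ha, map_sub, map_nsmul, r_r, ← Category.assoc, htj, ev_r', r_sec, Category.comp_id]
    congr 1
    rw [← Category.assoc (t k), htj]
    exact (good_ev (hσ (k + 1)) (t k) (j k ≫ x ≫ p)).unique hT (good_ev (hσ k) (𝟙 _) _)
  obtain ⟨a', ha'⟩ := K13.AdicHom.exists_hom_local (I := IsLocalRing.maximalIdeal O) le_rfl (X := A.left)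
    (fun k => (pt (a k)).left) (fun k => congrArg (fun t => t.left) (hta k))
  have hover : a' ≫ A.hom = Spec.map (CommRingCat.ofHom φ) := by
    have h2 : (Over.homMk (a' ≫ A.hom) (by subsingleton) : Over.mk (terminal.from (Spec (CommRingCat.of O))) ⟶
        Over.mk (terminal.from (Spec (CommRingCat.of B)))) = Over.homMk (Spec.map (CommRingCat.ofHom φ)) (by subsingleton) := by
      have : IsSeparated (Over.mk (terminal.from (Spec (CommRingCat.of B)))).hom := by
        change IsSeparated (terminal.from (Spec (CommRingCat.of B)))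
        infer_instance
      refine K478.RedExt.hom_ext_of_noetherian_local _ _ _ fun k => ?_
      change Spec.map (CommRingCat.ofHom (Ideal.Quotient.mk (IsLocalRing.maximalIdeal O ^ k))) ≫ a' ≫ A.hom =
        Spec.map (CommRingCat.ofHom (Ideal.Quotient.mk (IsLocalRing.maximalIdeal O ^ k))) ≫ Spec.map (CommRingCat.ofHom φ)
      have h3 := ha' k
      rw [← Category.assoc, h3, Over.w, ← Spec.map_comp, ← CommRingCat.ofHom_comp]
      rfl
    exact congrArg (fun t => t.left) h2
  let α : sp φ ⟶ A := Over.homMk a' hover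
  have hα : ∀ k, j k ≫ α = pt (a k) := fun k => Over.OverMorphism.ext (ha' k)
  refine ⟨α, fun k => ⟨σ k, hσ k, ?_⟩⟩
  change r D.E (j k) _ = ev (σ k) (𝟙 _) (sec (j k ≫ x ≫ p))
  rw [map_sub, map_nsmul, r_r, ← m_r, r_sec, hα, sec_pt, ha]
  abel

end Dat

end K630.AbExt
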