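import Groth.Agent.AbSch.K630.Descend

/-!
# Spreading out the correction term

* `ext_of_inj`: morphisms to a separated scheme which agree after a base change `Spec F ⟶ Spec G'`, `G' ⟶ F`
  injective, along a flat `W ⟶ Spec G'` agree;
* `Dat.exists_spread`: `X` locally noetherian, a morphism `Spec 𝒪_{X, x} ⟶ A` extends to an affine open
  neighbourhood of `x`, preserving goodness over flat `V i`.
-/

set_option autoImplicit false
universe u
open CategoryTheory CategoryTheory.Limits MonoidalCategory CartesianMonoidalCategory MonObj AlgebraicGeometry Opposite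

noncomputable section

namespace K630.AbExt

open Groth.Agent.Etdl.H432.Sec K452.HomPts K771.HomEv

lemma ext_of_inj {G' F : Type u} [CommRing G'] [CommRing F] (ψ : G' →+* F) (hψ : Function.Injective ψ)
    {Y : Scheme.{u}} {W Z W' : Over Y} [IsSeparated Z.hom] (w : W.left ⟶ Spec (CommRingCat.of G')) [Flat w]
    [IsSeparated w] (f : W' ⟶ W) (w' : W'.left ⟶ Spec (CommRingCat.of F))
    (hf : IsPullback f.left w' w (Spec.map (CommRingCat.ofHom ψ))) {a b : W ⟶ Z} (h : f ≫ a = f ≫ b) : a = b := by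
  have hd : Dense (fun _ : PUnit.{u + 1} => sp ψ) := dense_spec (fun _ => F) (fun _ => ψ) (fun x hx => by
    apply hψ
    rw [hx PUnit.unit, map_zero])
  let W₁ : Over (Spec (CommRingCat.of G')) := Over.mk w
  let Z₁ : Over (Spec (CommRingCat.of G')) := Over.mk (pullback.snd Z.hom W.hom ≫ w)
  have hs : IsSeparated Z₁.hom := by
    change IsSeparated (pullback.snd Z.hom W.hom ≫ w)
    infer_instance
  let a₁ : W₁ ⟶ Z₁ := Over.homMk (pullback.lift a.left (𝟙 _) (by rw [Over.w, Category.id_comp])) (by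
    change pullback.lift _ _ _ ≫ pullback.snd _ _ ≫ w = w
    rw [pullback.lift_snd_assoc]
    exact Category.id_comp _)
  let b₁ : W₁ ⟶ Z₁ := Over.homMk (pullback.lift b.left (𝟙 _) (by rw [Over.w, Category.id_comp])) (by
    change pullback.lift _ _ _ ≫ pullback.snd _ _ ≫ w = w
    rw [pullback.lift_snd_assoc]
    exact Category.id_comp _)
  have h1 : a₁ = b₁ := by
    refine hd W₁ Z₁ ‹_› hs _ _ fun _ => ?_
    apply Over.OverMorphism.ext
    let l : (W₁ ⊗ sp ψ).left ⟶ W'.left := hf.lift (fst W₁ (sp ψ)).left (snd W₁ (sp ψ)).left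
      ((Over.w (fst W₁ (sp ψ))).trans (Over.w (snd W₁ (sp ψ))).symm)
    have hl : l ≫ f.left = (fst W₁ (sp ψ)).left := hf.lift_fst _ _ _
    rw [Over.comp_left, Over.comp_left]
    apply pullback.hom_ext
    · change ((fst W₁ (sp ψ)).left ≫ pullback.lift a.left (𝟙 _) _) ≫ pullback.fst _ _ =
        ((fst W₁ (sp ψ)).left ≫ pullback.lift b.left (𝟙 _) _) ≫ pullback.fst _ _
      rw [Category.assoc, Category.assoc, pullback.lift_fst, pullback.lift_fst, ← hl, Category.assoc, Category.assoc,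
        ← Over.comp_left, ← Over.comp_left, h]
    · change ((fst W₁ (sp ψ)).left ≫ pullback.lift a.left (𝟙 _) _) ≫ pullback.snd _ _ =
        ((fst W₁ (sp ψ)).left ≫ pullback.lift b.left (𝟙 _) _) ≫ pullback.snd _ _
      rw [Category.assoc, Category.assoc, pullback.lift_snd, pullback.lift_snd]
  apply Over.OverMorphism.ext
  have h2 : a₁.left ≫ pullback.fst _ _ = b₁.left ≫ pullback.fst _ _ := by rw [h1]
  change pullback.lift _ _ _ ≫ _ = pullback.lift _ _ _ ≫ _ at h2
  rwa [pullback.lift_fst, pullback.lift_fst] at h2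

namespace Dat

variable {S : Scheme.{u}} {T A : Over S} [GrpObj T] [IsCommMonObj T] [GrpObj A] [IsCommMonObj A] {D : Dat T A}
  {I : Type*} {V : I → Over S}

/-- The local scheme at a point as an object over the base. -/
abbrev stk (X : Over S) (x : X.left) : Over S := Over.mk (X.left.fromSpecStalk x ≫ X.hom)

/-- The morphism to `X`. -/
abbrev stkι (X : Over S) (x : X.left) : stk X x ⟶ X := Over.homMk (X.left.fromSpecStalk x)

theorem exists_spread (hT : Red.IsTorus T) [IsProper A.hom] {n : ℕ} {X : Over S} (p : X ⟶ T)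
    (e : Γs D.E X) (he : m D.q X e = sec p) (x : X.left) [X.left.IsGermInjectiveAt x] (α : stk X x ⟶ A)
    (hflat : ∀ i, Flat (V i).hom) (hsep : ∀ i, IsSeparated (V i).hom) (hns : ∀ i, D.NS n (V i))
    (hα : ∀ i, D.Good n (r D.E (fst (stk X x) (V i)) (n • r D.E (stkι X x) e - m D.i _ (sec α)))
      (fst (stk X x) (V i) ≫ stkι X x ≫ p)) :
    ∃ (Z : Over S) (z : Z ⟶ X) (α₁ : Z ⟶ A), IsOpenImmersion z.left ∧ IsAffine Z.left ∧ x ∈ Set.range z.left ∧
      ∀ i, D.Good n (r D.E (fst Z (V i)) (n • r D.E z e - m D.i _ (sec α₁))) (fst Z (V i) ≫ z ≫ p) := by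
  obtain ⟨U₁, hxU₁, f, hf, hfS⟩ := spread_out_of_isGermInjective' X.hom A.hom (x := x) α.left (Over.w α)
  obtain ⟨U, hxU, hU, hle, hinj⟩ := X.left.exists_le_and_germ_injective x U₁ hxU₁
  let Z : Over S := Over.mk (U.ι ≫ X.hom)
  let z : Z ⟶ X := Over.homMk U.ι
  let α₁ : Z ⟶ A := Over.homMk (X.left.homOfLE hle ≫ f) (by
    change (X.left.homOfLE hle ≫ f) ≫ A.hom = U.ι ≫ X.hom
    rw [Category.assoc, hfS, ← Category.assoc, Scheme.homOfLE_ι])
  let j : stk X x ⟶ Z := Over.homMk (U.fromSpecStalkOfMem x hxU) (by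
    change U.fromSpecStalkOfMem x hxU ≫ U.ι ≫ X.hom = _
    rw [← Category.assoc, Scheme.Opens.fromSpecStalkOfMem_ι]
    rfl)
  have hjz : j ≫ z = stkι X x := Over.OverMorphism.ext (Scheme.Opens.fromSpecStalkOfMem_ι _ _ _)
  have hjα : j ≫ α₁ = α := by
    apply Over.OverMorphism.ext
    change U.fromSpecStalkOfMem x hxU ≫ X.left.homOfLE hle ≫ f = α.left
    rw [hf, ← Category.assoc]
    congr 1
    rw [← cancel_mono U₁.ι, Category.assoc, Scheme.homOfLE_ι, Scheme.Opens.fromSpecStalkOfMem_ι,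
      Scheme.Opens.fromSpecStalkOfMem_ι]
  refine ⟨Z, z, α₁, ?_, hU, ?_, fun i => ?_⟩
  · change IsOpenImmersion U.ι
    infer_instance
  · change x ∈ Set.range U.ι
    rw [Scheme.Opens.range_ι]
    exact hxU
  have haff : IsAffine Z.left := hU
  -- the chart of `Z`
  have := hflat i
  have := hsep i
  have hsq : IsPullback (j ▷ V i) (fst (stk X x) (V i)) (fst Z (V i)) j := by
    refine IsPullback.of_isLimit (PullbackCone.IsLimit.mk (by rw [whiskerRight_fst])
      (fun s => lift s.snd (s.fst ≫ snd _ _)) (fun s => ?_) (fun s => ?_) (fun s m h1 h2 => ?_))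
    · apply CartesianMonoidalCategory.hom_ext
      · rw [Category.assoc, whiskerRight_fst, lift_fst_assoc, s.condition]
      · rw [Category.assoc, whiskerRight_snd, lift_snd]
    · rw [lift_fst]
    · apply CartesianMonoidalCategory.hom_ext
      · rw [lift_fst, ← h2]
      · rw [lift_snd, ← h1, Category.assoc, whiskerRight_snd]
  have hsq₂ := hsq.map (Over.forget S)
  let w : (Z ⊗ V i).left ⟶ Spec (CommRingCat.of Γ(X.left, U)) := (fst Z (V i)).left ≫ hU.isoSpec.hom
  have hfl : Flat (fst Z (V i)).left := by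
    have : (fst Z (V i)).left = pullback.fst Z.hom (V i).hom := rfl
    rw [this]
    infer_instance
  have hse : IsSeparated (fst Z (V i)).left := by
    have : (fst Z (V i)).left = pullback.fst Z.hom (V i).hom := rfl
    rw [this]
    infer_instance
  have hw1 : Flat w := by
    change Flat ((fst Z (V i)).left ≫ hU.isoSpec.hom)
    infer_instance
  have hw2 : IsSeparated w := by
    change IsSeparated ((fst Z (V i)).left ≫ hU.isoSpec.hom)
    infer_instance
  have hpb : IsPullback (j ▷ V i).left (fst (stk X x) (V i)).left w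
      (Spec.map (CommRingCat.ofHom (X.left.presheaf.germ U x hxU).hom)) := by
    have hj : Spec.map (CommRingCat.ofHom (X.left.presheaf.germ U x hxU).hom) = j.left ≫ hU.isoSpec.hom := by
      change Spec.map (X.left.presheaf.germ U x hxU) = U.fromSpecStalkOfMem x hxU ≫ hU.isoSpec.hom
      rw [hU.isoSpec_hom, Scheme.Opens.fromSpecStalkOfMem_toSpecΓ]
    have h2 : IsPullback j.left (𝟙 _) hU.isoSpec.hom (j.left ≫ hU.isoSpec.hom) := by
      refine (IsPullback.of_horiz_isIso ⟨?_⟩).flip
      rw [Category.id_comp]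
    have h3 := hsq₂.paste_vert h2
    have h4 : (Over.forget S).map (fst (stk X x) (V i)) ≫ 𝟙 (stk X x).left = (fst (stk X x) (V i)).left :=
      Category.comp_id _
    rw [h4] at h3
    exact (congrArg (fun t => IsPullback (j ▷ V i).left (fst (stk X x) (V i)).left w t) hj).mpr h3
  obtain ⟨τ, hτ⟩ := hns i
  have hq : m D.q _ (r D.E (fst Z (V i)) (n • r D.E z e - m D.i _ (sec α₁))) = n • sec (fst Z (V i) ≫ z ≫ p) := by
    rw [m_r, map_sub, map_nsmul, m_r, he, q_i, sub_zero, map_nsmul, r_sec, r_sec]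
  refine good_of_ext hT hq ⟨_, hτ.restrict (snd _ _)⟩ (fun _ : PUnit.{1} => stk X x ⊗ V i) (fun _ => j ▷ V i)
    (fun a b hab => ext_of_inj _ hinj w (j ▷ V i) _ hpb (hab PUnit.unit)) (fun _ => ?_)
  have h5 := hα i
  have h6 : r D.E (j ▷ V i) (r D.E (fst Z (V i)) (n • r D.E z e - m D.i _ (sec α₁))) =
      r D.E (fst (stk X x) (V i)) (n • r D.E (stkι X x) e - m D.i _ (sec α)) := by
    rw [r_r, whiskerRight_fst, ← r_r, map_sub, map_nsmul, r_r, hjz, ← m_r, r_sec, hjα]
  rw [h6]
  have h7 : (j ▷ V i) ≫ fst Z (V i) ≫ z ≫ p = fst (stk X x) (V i) ≫ stkι X x ≫ p := by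
    rw [whiskerRight_fst_assoc, ← Category.assoc j, hjz]
  rw [h7]
  exact h5

end Dat

end K630.AbExt
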