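import Groth.Agent.AbSch.K630.Nrm

/-!
# `n`-splittings of extensions of abelian schemes and torsion points

`G ⟶ S` is quasi-compact and schematically dominant (the generic point).
* `Dat.exists_tors_sec`: an `n`-splitting over `G` restricted to an étale `j : N ⟶ T` killed by `m'` extends to `S`
  (if sections of the multiplication by `m'` on `A` extend);
* `Dat.tors_sec_eq`: it computes the `n`-splittings over `V ⟶ S` extending the given one.
-/

set_option autoImplicit false
universe u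
open CategoryTheory CategoryTheory.Limits MonoidalCategory CartesianMonoidalCategory MonObj AlgebraicGeometry Opposite

noncomputable section

namespace K630.AbExt

open Groth.Agent.Etdl.H432.Sec K452.HomPts K771.HomEv

variable {S : Scheme.{u}}

theorem isPullback_whiskerLeft {V' V : Over S} (k : V' ⟶ V) (W : Over S) :
    IsPullback (W ◁ k) (snd W V') (snd W V) k := by
  refine IsPullback.of_isLimit (PullbackCone.IsLimit.mk (by rw [whiskerLeft_snd])
    (fun s => lift (s.fst ≫ fst W V) s.snd) (fun s => ?_) (fun s => ?_) (fun s m h1 h2 => ?_))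
  · apply CartesianMonoidalCategory.hom_ext
    · rw [Category.assoc, whiskerLeft_fst, lift_fst]
    · rw [Category.assoc, whiskerLeft_snd, lift_snd_assoc, s.condition]
  · rw [lift_snd]
  · apply CartesianMonoidalCategory.hom_ext
    · rw [lift_fst, ← h1, Category.assoc, whiskerLeft_fst]
    · rw [lift_snd, ← h2]

theorem isPullback_whiskerRight {V' V : Over S} (k : V' ⟶ V) (W : Over S) :
    IsPullback (k ▷ W) (fst V' W) (fst V W) k := by
  refine IsPullback.of_isLimit (PullbackCone.IsLimit.mk (by rw [whiskerRight_fst])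
    (fun s => lift s.snd (s.fst ≫ snd V W)) (fun s => ?_) (fun s => ?_) (fun s m h1 h2 => ?_))
  · apply CartesianMonoidalCategory.hom_ext
    · rw [Category.assoc, whiskerRight_fst, lift_fst_assoc, s.condition]
    · rw [Category.assoc, whiskerRight_snd, lift_snd]
  · rw [lift_fst]
  · apply CartesianMonoidalCategory.hom_ext
    · rw [lift_fst, ← h2]
    · rw [lift_snd, ← h1, Category.assoc, whiskerRight_snd]

theorem prop_of_isPullback (Q : MorphismProperty Scheme.{u}) [Q.IsStableUnderBaseChange] {P X Y Z : Over S}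
    {a : P ⟶ X} {b : P ⟶ Y} {f : X ⟶ Z} {g : Y ⟶ Z} (h : IsPullback a b f g) (hg : Q g.left) : Q a.left :=
  MorphismProperty.of_isPullback (h.map (Over.forget S)).flip hg

theorem dom_whiskerRight {V' V : Over S} (k : V' ⟶ V) [IsSchemeTheoreticallyDominant k.left] [QuasiCompact k.left]
    (W : Over S) [Flat W.hom] : IsSchemeTheoreticallyDominant (k ▷ W).left ∧ QuasiCompact (k ▷ W).left := by
  have hpb := isPullback_whiskerRight k W
  have h1 := hpb.map (Over.forget S)
  have hfl : Flat (fst V W).left := inferInstanceAs (Flat (pullback.fst V.hom W.hom))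
  have hfl' : Flat ((Over.forget S).map (fst V W)) := hfl
  have hd : IsSchemeTheoreticallyDominant ((Over.forget S).map k) := ‹_›
  have hq : QuasiCompact ((Over.forget S).map k) := ‹_›
  exact ⟨@IsSchemeTheoreticallyDominant.of_isPullback _ _ _ _ _ _ _ _ h1.flip hd hq hfl',
    MorphismProperty.of_isPullback h1.flip hq⟩

variable {T A : Over S} [GrpObj T] [IsCommMonObj T] [GrpObj A] [IsCommMonObj A]

theorem sec_pow' {H : Over S} [GrpObj H] [IsCommMonObj H] {W : Over S} (x : W ⟶ H) (n : ℕ) :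
    sec (x ^ n) = n • sec x := by
  induction n with
  | zero => rw [pow_zero, zero_smul, sec_one]
  | succ k ih => rw [pow_succ, sec_mul, ih, succ_nsmul]

namespace Dat

variable (D : Dat T A)

section TorsSec

variable {G : Over S} {n : ℕ} {τ : Γs D.H G}

/-- An `n`-splitting restricted to étale torsion extends to `S`, if sections of `[m'] : A ⟶ A` extend. -/
theorem exists_tors_sec (hτ : D.IsNS n τ) [IsSchemeTheoreticallyDominant G.hom] [QuasiCompact G.hom]
    [IsSeparated T.hom] [IsSeparated A.hom] {X : Over S} (p : X ⟶ T)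
    [Smooth p.left] [Surjective p.left] (e : Γs D.E X) (he : m D.q X e = sec p) {N : Over S} [Etale N.hom]
    (j : N ⟶ T) (m' : ℕ) (hj : j ^ m' = 1)
    (hL : ∀ (Y : Over S) [Smooth Y.hom] (_ : Y ⟶ N) (c : Y ⟶ A) (b : G ⊗ Y ⟶ A),
      b ≫ (𝟙 A ^ m' : A ⟶ A) = snd G Y ≫ c → ∃ b' : Y ⟶ A, snd G Y ≫ b' = b) :
    ∃ eN : Γs D.E N, m D.q _ eN = n • sec j ∧
      r D.E (snd G N) eN = ev τ (fst G N) (sec (snd G N ≫ j)) := by
  -- the covering `Y` of `N`
  let Y : Over S := pullback (j ^ n) p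
  let y₁ : Y ⟶ N := pullback.fst _ _
  let y₂ : Y ⟶ X := pullback.snd _ _
  have hY : IsPullback y₁ y₂ (j ^ n) p := IsPullback.of_hasPullback _ _
  have hy₁ : Smooth y₁.left := prop_of_isPullback @Smooth hY ‹_›
  have hy₁' : Surjective y₁.left := prop_of_isPullback @Surjective hY ‹_›
  have hYsm : Smooth Y.hom := by
    rw [← Over.w y₁]
    infer_instance
  let eY : Γs D.E Y := r D.E y₂ e
  have hqY : m D.q Y eY = n • sec (y₁ ≫ j) := by
    rw [m_r, he, r_sec, ← hY.w, MonObj.comp_pow, sec_pow']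
  obtain ⟨c0, hc0⟩ := D.exists_i (m' • eY) (by
    rw [map_nsmul, hqY, smul_comm, ← sec_pow', ← MonObj.comp_pow, hj, MonObj.comp_one, sec_one, smul_zero])
  -- the difference over `G ⊗ Y`
  obtain ⟨b0, hb0⟩ := D.exists_i (r D.E (snd G Y) eY - ev τ (fst G Y) (sec (snd G Y ≫ y₁ ≫ j))) (by
    rw [map_sub, m_r, hqY, hτ, map_nsmul, r_sec, sub_self])
  have hb : pt b0 ≫ (𝟙 A ^ m' : A ⟶ A) = snd G Y ≫ pt c0 := by
    rw [MonObj.comp_pow, Category.comp_id]
    apply sec_inj
    apply D.i_inj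
    have h0 : sec (snd G Y ≫ pt c0) = r (P A) (snd G Y) c0 := rfl
    rw [sec_pow', sec_pt, map_nsmul, hb0, h0, m_r, hc0, map_nsmul, smul_sub, ← map_nsmul (ev τ (fst G Y)),
      ← sec_pow']
    have h1 : (snd G Y ≫ y₁ ≫ j) ^ m' = 1 := by
      rw [← MonObj.comp_pow, ← MonObj.comp_pow, hj, MonObj.comp_one, MonObj.comp_one]
    rw [h1, sec_one, map_zero, sub_zero]
  obtain ⟨b', hb'⟩ := hL Y y₁ (pt c0) (pt b0) hb
  let f : Γs D.E Y := eY - m D.i _ (sec b')
  have hf : r D.E (snd G Y) f = ev τ (fst G Y) (sec (snd G Y ≫ y₁ ≫ j)) := by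
    rw [map_sub, ← m_r, r_sec, hb', sec_pt, hb0]
    abel
  have hqf : m D.q _ f = n • sec (y₁ ≫ j) := by
    rw [map_sub, q_i, sub_zero, hqY]
  -- descent to `N`
  have hcov : Cov y₁ := cov_of _
  have hglue : ∀ {Z : Over S} (a b : Z ⟶ Y), a ≫ y₁ = b ≫ y₁ → r D.E a f = r D.E b f := by
    intro Z a b hab
    let Y2 : Over S := pullback y₁ y₁
    let u₁ : Y2 ⟶ Y := pullback.fst _ _
    let u₂ : Y2 ⟶ Y := pullback.snd _ _
    have hu : u₁ ≫ y₁ = u₂ ≫ y₁ := pullback.condition
    have hY2 : Smooth Y2.hom := by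
      have h1 : Smooth u₁.left := prop_of_isPullback @Smooth (IsPullback.of_hasPullback y₁ y₁) hy₁
      rw [← Over.w u₁]
      infer_instance
    have h0 : r D.E u₁ f = r D.E u₂ f := by
      obtain ⟨h1, -⟩ := dom_snd G Y2
      apply D.r_inj_of_dom (snd G Y2)
      have h2 : ∀ u : Y2 ⟶ Y, snd G Y2 ≫ u = (G ◁ u) ≫ snd G Y := fun u => (whiskerLeft_snd G u).symm
      rw [r_r, r_r, h2, h2, ← r_r, ← r_r, hf, ev_r', ev_r', r_sec, r_sec, whiskerLeft_fst, whiskerLeft_fst,
        whiskerLeft_snd_assoc, whiskerLeft_snd_assoc, ← Category.assoc u₁, ← Category.assoc u₂, hu]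
    let z : Z ⟶ Y2 := pullback.lift a b hab
    have hz1 : z ≫ u₁ = a := pullback.lift_fst _ _ _
    have hz2 : z ≫ u₂ = b := pullback.lift_snd _ _ _
    rw [← hz1, ← hz2, ← r_r, ← r_r, h0]
  obtain ⟨eN, heN⟩ := glue D.E hcov (fun _ => f) (fun _ _ Z a b hab => hglue a b hab)
  have heN := heN PUnit.unit
  refine ⟨eN, ?_, ?_⟩
  · refine sep (P T) hcov _ _ fun _ => ?_
    rw [← m_r, heN, hqf, map_nsmul, r_sec]
  · have hcov' : Cov (G ◁ y₁) := by
      have h1 := isPullback_whiskerLeft y₁ G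
      have h2 : Smooth (G ◁ y₁).left := prop_of_isPullback @Smooth h1 hy₁
      have h3 : Surjective (G ◁ y₁).left := prop_of_isPullback @Surjective h1 hy₁'
      exact cov_of _
    refine sep D.E hcov' _ _ fun _ => ?_
    rw [r_r, whiskerLeft_snd, ← r_r, heN, hf, ev_r', whiskerLeft_fst, r_sec, whiskerLeft_snd_assoc]

/-- The torsion section computes every extension of the splitting. -/
theorem tors_sec_eq [IsSeparated T.hom] [IsSeparated A.hom] {N : Over S} [Flat N.hom] (j : N ⟶ T)
    {eN : Γs D.E N} (heN : r D.E (snd G N) eN = ev τ (fst G N) (sec (snd G N ≫ j)))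
    {V W : Over S} (jW : W ⟶ V) [IsSchemeTheoreticallyDominant jW.left] [QuasiCompact jW.left] (w : W ⟶ G)
    {σ : Γs D.H V} (hσ : r D.H jW σ = r D.H w τ) :
    r D.E (snd V N) eN = ev σ (fst V N) (sec (snd V N ≫ j)) := by
  obtain ⟨h1, -⟩ := dom_whiskerRight jW N
  apply D.r_inj_of_dom (jW ▷ N)
  have h2 : (jW ▷ N) ≫ snd V N = (w ▷ N) ≫ snd G N := by rw [whiskerRight_snd, whiskerRight_snd]
  rw [r_r, h2, ← r_r, heN, ev_r', ev_r', r_sec, r_sec, whiskerRight_fst,
    whiskerRight_fst, whiskerRight_snd_assoc, whiskerRight_snd_assoc, ← ev_r, ← ev_r, hσ]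

end TorsSec

end Dat

end K630.AbExt
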