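import Groth.Agent.AbSch.K630.Tor
import Groth.Agent.AbVar.K510.DenseAny
import Groth.Agent.Sga3B.DSPts

/-!
# `n`-splittings over a field which agree on torsion points are equal
-/

set_option autoImplicit false
universe u
open CategoryTheory CategoryTheory.Limits MonoidalCategory CartesianMonoidalCategory MonObj AlgebraicGeometry Opposite

noncomputable section

namespace K630.AbExt

open Groth.Agent.Etdl.H432.Sec K452.HomPts K771.HomEv Groth.Agent.Sga3B.DSPts

variable {S : Scheme.{u}} {T A : Over S} [GrpObj T] [IsCommMonObj T] [GrpObj A] [IsCommMonObj A]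

namespace Dat

variable (D : Dat T A)

/-- `n`-splittings over a field which agree on torsion points are equal. -/
theorem eq_of_torsion {L : Type u} [Field L] (z : Spec (CommRingCat.of L) ⟶ S) {n : ℕ}
    {ρ₁ ρ₂ : Γs D.H (Over.mk z)} (h₁ : D.IsNS n ρ₁) (h₂ : D.IsNS n ρ₂) [IsProper T.hom] [GeometricallyIntegral T.hom]
    [IsSeparated A.hom] (l : ℕ) (hl : (l : L) ≠ 0) (hl2 : 2 ≤ l)
    (H : ∀ (k : ℕ) (W : Over S) (g : W ⟶ Over.mk z) (t : W ⟶ T), t ^ (l ^ k) = 1 →
      ev ρ₁ g (sec t) = ev ρ₂ g (sec t)) : ρ₁ = ρ₂ := by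
  have key : ∀ (W : Over S) (g : W ⟶ Over.mk z) (t : Γs (P T) W),
      ∃ a : Γs (P A) W, m D.i W a = ev ρ₁ g t - ev ρ₂ g t := by
    intro W g t
    apply D.exists_i
    have e1 := h₁ W g (pt t)
    have e2 := h₂ W g (pt t)
    rw [sec_pt] at e1 e2
    rw [map_sub, e1, e2, sub_self]
  choose a ha using key
  let V : Over S := Over.mk z
  let u : T ⊗ V ⟶ A := pt (a (T ⊗ V) (snd T V) (sec (fst T V)))
  have hu : ∀ {W : Over S} (t : W ⟶ T) (g : W ⟶ V), lift t g ≫ u = pt (a W g (sec t)) := by
    intro W t g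
    apply sec_inj
    apply D.i_inj
    have e1 : sec (lift t g ≫ u) = r (P A) (lift t g) (a (T ⊗ V) (snd T V) (sec (fst T V))) := rfl
    rw [e1, m_r, ha, map_sub, ev_r', ev_r', lift_snd, r_sec, lift_fst, sec_pt, ha]
  -- the morphism over `L`
  let f : Red.bc z T ⟶ Red.bc z A := bcEquiv z (Red.bc z T) A
    (lift ((bcEquiv z (Red.bc z T) T).symm (𝟙 _)) (Over.homMk (Red.bc z T).hom rfl : (Over.map z).obj (Red.bc z T) ⟶ V) ≫ u)
  have i1 : IsProper (Red.bc z T).hom := inferInstanceAs (IsProper (pullback.snd T.hom z))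
  have i2 : GeometricallyIntegral (Red.bc z T).hom := inferInstanceAs (GeometricallyIntegral (pullback.snd T.hom z))
  have i3 : IsSeparated (Red.bc z A).hom := inferInstanceAs (IsSeparated (pullback.snd A.hom z))
  have hf : f = 1 := by
    refine K510.DenseAny.eq_of_torsion (Red.bc z T) l hl hl2 f 1 fun k T' x hx => ?_
    apply (bcEquiv z T' A).symm.injective
    rw [MonObj.comp_one, map_one]
    have e1 : x ≫ f = bcEquiv z T' A (lift ((bcEquiv z T' T).symm x) (Over.homMk T'.hom rfl : (Over.map z).obj T' ⟶ V) ≫ u) := by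
      simp only [f]
      rw [bcEquiv_naturality, ← Category.assoc, comp_lift, bcEquiv_symm_naturality, Category.comp_id]
      congr 3
      apply Over.OverMorphism.ext
      exact Over.w x
    rw [e1, MulEquiv.symm_apply_apply, hu]
    have e2 : (bcEquiv z T' T).symm x ^ (l ^ k) = 1 := by
      rw [← map_pow, hx, map_one]
    apply sec_inj
    apply D.i_inj
    rw [sec_pt, ha, H k _ _ _ e2, sub_self, sec_one, map_zero]
  have hu1 : ∀ {W : Over S} (t : W ⟶ T) (g : W ⟶ V), lift t g ≫ u = 1 := by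
    intro W t g
    let W' : Over (Spec (CommRingCat.of L)) := Over.mk g.left
    let i : W ≅ (Over.map z).obj W' := Over.isoMk (Iso.refl _) (by
      change 𝟙 _ ≫ g.left ≫ z = W.hom
      rw [Category.id_comp]
      exact Over.w g)
    have e1 : bcEquiv z W' T (i.inv ≫ t) ≫ f = 1 := by rw [hf, MonObj.comp_one]
    have e2 : bcEquiv z W' T (i.inv ≫ t) ≫ f =
        bcEquiv z W' A (lift (i.inv ≫ t) (Over.homMk W'.hom rfl : (Over.map z).obj W' ⟶ V) ≫ u) := by
      simp only [f]
      rw [bcEquiv_naturality, ← Category.assoc, comp_lift, bcEquiv_symm_naturality, Category.comp_id,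
        MulEquiv.symm_apply_apply]
      congr 3
      apply Over.OverMorphism.ext
      exact Over.w _
    rw [e2] at e1
    have e3 : lift (i.inv ≫ t) (Over.homMk W'.hom rfl : (Over.map z).obj W' ⟶ V) ≫ u = 1 := by
      apply (bcEquiv z W' A).injective
      rw [e1, map_one]
    have e4 : lift t g = i.hom ≫ lift (i.inv ≫ t) (Over.homMk W'.hom rfl : (Over.map z).obj W' ⟶ V) := by
      rw [comp_lift, Iso.hom_inv_id_assoc]
      congr 1
    rw [e4, Category.assoc, e3, MonObj.comp_one]
  refine ev_ext fun W g x => ?_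
  have e1 : a W g x = 0 := by
    apply pt_injective
    have := hu (pt x) g
    rw [sec_pt] at this
    rw [← this, hu1]
    rfl
  have e2 := ha W g x
  rw [e1, map_zero] at e2
  exact sub_eq_zero.mp e2.symm

end Dat

end K630.AbExt
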