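import Groth.Agent.AbSch.K630.Etor
import Groth.Agent.AbSch.K630.TorPts
import Groth.Agent.AbSch.K629.DvrExt
import Groth.Agent.AbSch.K234.NrmExt

/-!
# `n`-splittings over the generic point of a geometrically unibranch scheme

* `Dat.TorSec τ`: near every point the torsion sections of the splitting `τ` over `G` extend;
* `Dat.dvrHyp`: the trait condition for the difference of a chart and `τ`.
-/

set_option autoImplicit false
universe u
open CategoryTheory CategoryTheory.Limits MonoidalCategory CartesianMonoidalCategory MonObj AlgebraicGeometry Opposite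

noncomputable section

namespace K630.AbExt

open Groth.Agent.Etdl.H432.Sec K452.HomPts K771.HomEv K629.DvrExt

variable {S : Scheme.{u}} {T A : Over S} [GrpObj T] [IsCommMonObj T] [GrpObj A] [IsCommMonObj A]

namespace Dat

variable (D : Dat T A)

/-- Near every point of `S` the values of the splitting `τ` over `G` on `l`-power torsion extend. -/
def TorSec (n : ℕ) {G : Over S} (τ : Γs D.H G) : Prop :=
  ∀ s : S, ∃ (U : S.Opens) (l : ℕ), s ∈ U ∧ 2 ≤ l ∧ IsUnit (l : Γ(S, U)) ∧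
    ∀ k : ℕ, ∃ (N : Over S) (_ : Etale N.hom) (j : N ⟶ T) (eN : Γs D.E N), m D.q _ eN = n • sec j ∧
      r D.E (snd G N) eN = ev τ (fst G N) (sec (snd G N ≫ j)) ∧
      ∀ (W : Over S) (x : W ⟶ T), x ^ (l ^ k) = 1 → Set.range W.hom ⊆ U → ∃ w : W ⟶ N, w ≫ j = x

section

variable {D} {G : Over S} {n : ℕ} {τ : Γs D.H G} {X : Over S} (p : X ⟶ T) (e : Γs D.E X)

theorem exists_diff (hτ : D.IsNS n τ) (he : m D.q X e = sec p) :
    ∃ a : G ⊗ X ⟶ A, m D.i _ (sec a) = n • r D.E (snd G X) e - ev τ (fst G X) (sec (snd G X ≫ p)) := by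
  obtain ⟨a, ha⟩ := D.exists_i (n • r D.E (snd G X) e - ev τ (fst G X) (sec (snd G X ≫ p))) (by
    rw [map_sub, map_nsmul, m_r, he, hτ, r_sec, sub_self])
  exact ⟨pt a, by rw [sec_pt, ha]⟩

/-- The value of the difference at a trait. -/
theorem trait_value [Smooth p.left] [Surjective p.left] [Smooth T.hom] [IsSeparated T.hom] [IsProper A.hom]
    (hτ : D.IsNS n τ) (he : m D.q X e = sec p) {a : G ⊗ X ⟶ A}
    (ha : m D.i _ (sec a) = n • r D.E (snd G X) e - ev τ (fst G X) (sec (snd G X ≫ p)))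
    {R : Type u} [CommRing R] [IsDomain R] [IsDiscreteValuationRing R] (x : Spec (CommRingCat.of R) ⟶ X.left)
    (b : Spec (CommRingCat.of R) ⟶ A.left) (h : x ≫ X.hom = b ≫ A.hom)
    (g : Spec (CommRingCat.of (FractionRing R)) ⟶ (G ⊗ X).left)
    (k : g ≫ (snd G X).left = Spec.map (CommRingCat.ofHom (algebraMap R (FractionRing R))) ≫ x)
    (l : g ≫ a.left = Spec.map (CommRingCat.ofHom (algebraMap R (FractionRing R))) ≫ b) :
    ∃ σ : Γs D.H (Over.mk (x ≫ X.hom)), D.IsNS n σ ∧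
      (∃ w : gn (x ≫ X.hom) ⟶ G, r D.H (gj (x ≫ X.hom)) σ = r D.H w τ) ∧
      m D.i _ (sec (Over.homMk b h.symm : Over.mk (x ≫ X.hom) ⟶ A)) =
        n • r D.E (Over.homMk x rfl : Over.mk (x ≫ X.hom) ⟶ X) e -
          ev σ (𝟙 _) (sec ((Over.homMk x rfl : Over.mk (x ≫ X.hom) ⟶ X) ≫ p)) := by
  let v := x ≫ X.hom
  let x' : Over.mk v ⟶ X := Over.homMk x rfl
  let b' : Over.mk v ⟶ A := Over.homMk b h.symm
  let g' : gn v ⟶ G ⊗ X := Over.homMk g (by
    rw [← Over.w (snd G X), ← Category.assoc, k, Category.assoc]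
    rfl)
  have hk : g' ≫ snd G X = gj v ≫ x' := Over.OverMorphism.ext k
  have hl : g' ≫ a = gj v ≫ b' := Over.OverMorphism.ext l
  obtain ⟨σ, hσ, hσ'⟩ := exists_extend p e he v (r D.H (g' ≫ fst G X) τ) (hτ.restrict _)
  refine ⟨σ, hσ, ⟨_, hσ'⟩, ?_⟩
  obtain ⟨c, hc⟩ := D.exists_i (n • r D.E x' e - ev σ (𝟙 _) (sec (x' ≫ p))) (by
    rw [map_sub, map_nsmul, m_r, he, hσ, r_sec, sub_self])
  have : Fact (Function.Injective (algebraMap R (FractionRing R))) := ⟨IsFractionRing.injective R _⟩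
  have h1 : IsSchemeTheoreticallyDominant (gj v).left :=
    (inferInstance : IsSchemeTheoreticallyDominant (Spec.map (CommRingCat.ofHom (algebraMap R (FractionRing R)))))
  have h2 : b' = pt c := by
    apply hom_ext_of_dom (gj v)
    rw [← hl]
    apply sec_inj
    apply D.i_inj
    have e1 : sec (gj v ≫ pt c) = r (P A) (gj v) c := rfl
    rw [e1, m_r, hc, ← r_sec, m_r, ha, map_sub, map_sub, map_nsmul, map_nsmul, r_r, r_r, hk, ev_r', ev_r', r_sec,
      r_sec, ← Category.assoc g', hk, Category.comp_id, Category.assoc]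
    congr 1
    have e2 : ev σ (gj v) (sec (gj v ≫ x' ≫ p)) = ev (r D.H (gj v) σ) (𝟙 _) (sec (gj v ≫ x' ≫ p)) := by
      rw [ev_r, Category.id_comp]
    rw [e2, hσ', ev_r, Category.id_comp]
  change m D.i _ (sec b') = n • r D.E x' e - ev σ (𝟙 _) (sec (x' ≫ p))
  rw [h2, sec_pt, hc]

/-- The trait condition. -/
theorem dvrHyp [Smooth p.left] [Surjective p.left] [Smooth T.hom] [IsProper T.hom] [GeometricallyIntegral T.hom]
    [IsProper A.hom] (hτ : D.IsNS n τ) (ht : D.TorSec n τ) (he : m D.q X e = sec p) {a : G ⊗ X ⟶ A}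
    (ha : m D.i _ (sec a) = n • r D.E (snd G X) e - ev τ (fst G X) (sec (snd G X ≫ p))) :
    K234.NrmExt.DvrHyp a := by
  intro L _ _ R₁ _ _ _ x₁ a₁ h₁ g₁ k₁ l₁ c₁ m₁ R₂ _ _ _ x₂ a₂ h₂ g₂ k₂ l₂ c₂ m₂ hx
  obtain ⟨σ₁, hσ₁, ⟨w₁, hw₁⟩, hv₁⟩ := trait_value p e hτ he ha x₁ a₁ h₁ g₁ k₁ l₁
  obtain ⟨σ₂, hσ₂, ⟨w₂, hw₂⟩, hv₂⟩ := trait_value p e hτ he ha x₂ a₂ h₂ g₂ k₂ l₂
  let z : Spec (CommRingCat.of L) ⟶ S := Spec.map (CommRingCat.ofHom c₁) ≫ x₁ ≫ X.hom
  let Z : Over S := Over.mk z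
  let ζ₁ : Z ⟶ Over.mk (x₁ ≫ X.hom) := Over.homMk (Spec.map (CommRingCat.ofHom c₁)) rfl
  let ζ₂ : Z ⟶ Over.mk (x₂ ≫ X.hom) := Over.homMk (Spec.map (CommRingCat.ofHom c₂)) (by
    change Spec.map (CommRingCat.ofHom c₂) ≫ x₂ ≫ X.hom = z
    rw [← Category.assoc, ← hx, Category.assoc])
  let y : Z ⟶ X := Over.homMk (Spec.map (CommRingCat.ofHom c₁) ≫ x₁) (Category.assoc _ _ _)
  have hy₁ : ζ₁ ≫ (Over.homMk x₁ rfl : Over.mk (x₁ ≫ X.hom) ⟶ X) = y := Over.OverMorphism.ext rfl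
  have hy₂ : ζ₂ ≫ (Over.homMk x₂ rfl : Over.mk (x₂ ≫ X.hom) ⟶ X) = y := Over.OverMorphism.ext hx.symm
  -- the splittings agree
  have hdom : ∀ {R : Type u} [CommRing R] [IsDomain R] (v : Spec (CommRingCat.of R) ⟶ S),
      IsSchemeTheoreticallyDominant (gj v).left ∧ QuasiCompact (gj v).left := by
    intro R _ _ v
    have : Fact (Function.Injective (algebraMap R (FractionRing R))) := ⟨IsFractionRing.injective R _⟩
    exact ⟨(inferInstance : IsSchemeTheoreticallyDominant (Spec.map (CommRingCat.ofHom (algebraMap R (FractionRing R))))),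
      (inferInstance : QuasiCompact (Spec.map (CommRingCat.ofHom (algebraMap R (FractionRing R)))))⟩
  let s : S := z (IsLocalRing.closedPoint L)
  obtain ⟨U, l, hsU, hl2, hl, hN⟩ := ht s
  have hzU : Set.range z ⊆ U := by
    rintro _ ⟨t, rfl⟩
    have : t = IsLocalRing.closedPoint L := Subsingleton.elim _ _
    rw [this]
    exact hsU
  have hlL : (l : L) ≠ 0 := by
    have e1 : IsUnit (l : Γ(Spec (CommRingCat.of L), ⊤)) := by
      have e2 := hl.map (z.appLE U ⊤ (fun t _ => hzU ⟨t, rfl⟩)).hom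
      rwa [map_natCast] at e2
    have e3 := e1.map (Scheme.ΓSpecIso (CommRingCat.of L)).hom.hom
    rw [map_natCast] at e3
    exact e3.ne_zero
  have hρ : r D.H ζ₁ σ₁ = r D.H ζ₂ σ₂ := by
    refine eq_of_torsion D z (hσ₁.restrict ζ₁) (hσ₂.restrict ζ₂) l hlL hl2 fun k W g t htk => ?_
    obtain ⟨N, hNe, j, eN, -, heN, hNu⟩ := hN k
    have hW : Set.range W.hom ⊆ U := by
      rw [← Over.w g]
      rintro _ ⟨t, rfl⟩
      exact hzU ⟨_, rfl⟩
    obtain ⟨w, rfl⟩ := hNu W t htk hW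
    obtain ⟨d₁, q₁⟩ := hdom (x₁ ≫ X.hom)
    obtain ⟨d₂, q₂⟩ := hdom (x₂ ≫ X.hom)
    have e1 := congrArg (r D.E (lift (g ≫ ζ₁) w)) (D.tors_sec_eq j heN (gj (x₁ ≫ X.hom)) w₁ hw₁)
    have e2 := congrArg (r D.E (lift (g ≫ ζ₂) w)) (D.tors_sec_eq j heN (gj (x₂ ≫ X.hom)) w₂ hw₂)
    rw [r_r, ev_r', lift_snd, lift_fst, r_sec, lift_snd_assoc] at e1 e2
    rw [ev_r, ev_r, ← e1, ← e2]
  have key : ζ₁ ≫ (Over.homMk a₁ h₁.symm : Over.mk (x₁ ≫ X.hom) ⟶ A) =
      ζ₂ ≫ (Over.homMk a₂ h₂.symm : Over.mk (x₂ ≫ X.hom) ⟶ A) := by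
    apply sec_inj
    apply D.i_inj
    rw [← r_sec, ← r_sec, m_r, m_r, hv₁, hv₂, map_sub, map_sub, map_nsmul, map_nsmul, r_r, r_r, hy₁, hy₂, ev_r', ev_r',
      Category.comp_id, Category.comp_id, r_sec, r_sec, ← Category.assoc ζ₁, ← Category.assoc ζ₂, hy₁, hy₂]
    congr 1
    have e1 : ∀ (V : Over S) (ζ : Z ⟶ V) (σ : Γs D.H V), ev σ ζ (sec (y ≫ p)) = ev (r D.H ζ σ) (𝟙 _) (sec (y ≫ p)) := by
      intro V ζ σ
      rw [ev_r, Category.id_comp]
    rw [e1 _ ζ₁ σ₁, e1 _ ζ₂ σ₂, hρ]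
  exact congrArg (fun t => t.left) key

/-- The descent condition. -/
theorem desc_hyp [QuasiCompact G.hom] [QuasiSeparated G.hom] [IsSeparated A.hom]
    (ht : D.TorSec n τ) (he : m D.q X e = sec p) {a : G ⊗ X ⟶ A}
    (ha : m D.i _ (sec a) = n • r D.E (snd G X) e - ev τ (fst G X) (sec (snd G X ≫ p)))
    {a' : nrm G ⊗ X ⟶ A} (ha' : (toNrm G ▷ X) ≫ a' = a) (s : S) :
    ∃ (U : S.Opens) (l : ℕ), s ∈ U ∧ 2 ≤ l ∧ IsUnit (l : Γ(S, U)) ∧ ∀ (k : ℕ) (W : Over S) [Smooth W.hom]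
      (x : W ⟶ X), (x ≫ p) ^ (l ^ k) = 1 → Set.range W.hom ⊆ U → ∃ b : W ⟶ A, snd (nrm G) W ≫ b = (nrm G ◁ x) ≫ a' := by
  obtain ⟨U, l, hsU, hl2, hl, hN⟩ := ht s
  refine ⟨U, l, hsU, hl2, hl, fun k W _ x hx hW => ?_⟩
  obtain ⟨N, hNe, j, eN, hqN, heN, hNu⟩ := hN k
  obtain ⟨w, hw⟩ := hNu W (x ≫ p) hx hW
  obtain ⟨b, hb⟩ := D.exists_i (n • r D.E x e - r D.E w eN) (by
    rw [map_sub, map_nsmul, m_r, m_r, he, hqN, map_nsmul, r_sec, r_sec, hw, sub_self])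
  refine ⟨pt b, ?_⟩
  obtain ⟨d, q⟩ := dom_whiskerRight (toNrm G) W
  apply hom_ext_of_dom (toNrm G ▷ W)
  rw [← Category.assoc, whiskerRight_snd, ← Category.assoc, ← MonoidalCategory.whisker_exchange, Category.assoc, ha']
  apply sec_inj
  apply D.i_inj
  have e1 : sec (snd G W ≫ pt b) = r (P A) (snd G W) b := rfl
  rw [e1, m_r, hb, ← r_sec, m_r, ha, map_sub, map_sub, map_nsmul, map_nsmul, r_r, r_r, r_r, whiskerLeft_snd, ev_r',
    whiskerLeft_fst, r_sec, whiskerLeft_snd_assoc, ← hw]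
  congr 1
  have e2 : snd G W ≫ w = (G ◁ w) ≫ snd G N := (whiskerLeft_snd G w).symm
  rw [e2, ← r_r, heN, ev_r', whiskerLeft_fst, r_sec, whiskerLeft_snd_assoc]

theorem dense_of_dom (G : Over S) [IsSchemeTheoreticallyDominant G.hom] [QuasiCompact G.hom] :
    Dense (fun _ : PUnit.{1} => G) := by
  intro W Z hW hZ a b h
  obtain ⟨d, q⟩ := dom_snd G W
  apply hom_ext_of_dom (snd G W)
  have e1 : snd G W = lift (snd G W) (fst G W) ≫ fst W G := by rw [lift_fst]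
  rw [e1, Category.assoc, Category.assoc, h PUnit.unit]

/-- If the difference descends then there is an `n`-splitting over `S`. -/
theorem ns_of_desc [IsSchemeTheoreticallyDominant G.hom] [QuasiCompact G.hom] [QuasiSeparated G.hom]
    [IsSeparated T.hom] [IsSeparated A.hom] [Smooth T.hom]
    [Smooth p.left] [Surjective p.left] (he : m D.q X e = sec p) {a : G ⊗ X ⟶ A}
    (ha : m D.i _ (sec a) = n • r D.E (snd G X) e - ev τ (fst G X) (sec (snd G X ≫ p)))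
    (a₀ : X ⟶ A) (ha₀ : snd G X ≫ a₀ = a) : D.NS n (𝟙_ (Over S)) := by
  have hX : Smooth X.hom := by
    rw [← Over.w p]
    infer_instance
  obtain ⟨σ, hσ, -⟩ := ns_of_dense (D := D) (dense_of_dom G) p (n • e - m D.i _ (sec a₀)) (by
    rw [map_sub, map_nsmul, he, q_i, sub_zero]) (fun _ => τ) (fun _ => by
      have e1 : fst X G = lift (snd X G) (fst X G) ≫ snd G X := by rw [lift_snd]
      rw [e1, ← r_r, map_sub, ← m_r, r_sec, ha₀, ha, map_nsmul, sub_sub_cancel, ev_r', lift_fst, r_sec, Category.assoc])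
  exact ⟨σ, hσ⟩

theorem exists_open_unit (s : S) : ∃ (U : S.Opens) (l : ℕ), s ∈ U ∧ 2 ≤ l ∧ IsUnit (l : Γ(S, U)) := by
  have key : IsUnit ((2 : ℕ) : S.presheaf.stalk s) ∨ IsUnit ((3 : ℕ) : S.presheaf.stalk s) := by
    have h1 : IsUnit (-((2 : ℕ) : S.presheaf.stalk s) + ((3 : ℕ) : S.presheaf.stalk s)) := by
      have : (-((2 : ℕ) : S.presheaf.stalk s) + ((3 : ℕ) : S.presheaf.stalk s)) = 1 := by
        push_cast
        ring
      rw [this]
      exact isUnit_one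
    rcases IsLocalRing.isUnit_or_isUnit_of_isUnit_add h1 with h | h
    · exact Or.inl (by simpa using h.neg)
    · exact Or.inr h
  obtain ⟨l, hl2, hl⟩ : ∃ l : ℕ, 2 ≤ l ∧ IsUnit (l : S.presheaf.stalk s) := by
    rcases key with h | h
    exacts [⟨2, le_rfl, h⟩, ⟨3, by norm_num, h⟩]
  refine ⟨S.basicOpen (l : Γ(S, ⊤)), l, ?_, hl2, ?_⟩
  · rw [Scheme.mem_basicOpen_top, map_natCast]
    exact hl
  · have h1 := RingedSpace.isUnit_res_basicOpen _ (l : Γ(S, ⊤))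
    exact (map_natCast (S.presheaf.map (homOfLE (S.basicOpen_le (l : Γ(S, ⊤)))).op).hom l) ▸ h1

/-- Torsion sections over geometrically unibranch schemes. -/
theorem torSec [IsSchemeTheoreticallyDominant G.hom] [QuasiCompact G.hom] [QuasiSeparated G.hom]
    [UniversallyInjective (nrm G).hom] [Surjective (nrm G).hom]
    [IsProper T.hom] [Smooth T.hom] [GeometricallyConnected T.hom]
    [IsProper A.hom] [Smooth A.hom] [GeometricallyConnected A.hom] [Smooth p.left] [Surjective p.left]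
    (hτ : D.IsNS n τ) (he : m D.q X e = sec p) : D.TorSec n τ := by
  have := K448.SmoothConn.geometricallyReduced T.hom
  have := K448.SmoothConn.geometricallyReduced A.hom
  intro s
  obtain ⟨U, l, hsU, hl2, hl⟩ := exists_open_unit s
  refine ⟨U, l, hsU, hl2, hl, fun k => ?_⟩
  have hlk : IsUnit (((l ^ k : ℕ)) : Γ(S, U)) := by
    rw [Nat.cast_pow]
    exact hl.pow k
  obtain ⟨N, hN, j, hj, hNU, hNu⟩ := exists_etale_torsion T U (l ^ k) hlk
  have hfin : IsFinite (𝟙 A ^ (l ^ k) : A ⟶ A).left := by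
    have h1 := (K454.MulEpi.isFinite_flat_surjective_zpow A ((l ^ k : ℕ) : ℤ) (by positivity)).1
    rwa [zpow_natCast] at h1
  obtain ⟨eN, h1, h2⟩ := D.exists_tors_sec hτ p e he j (l ^ k) hj (fun Y _ y c b hb =>
    exists_lift_of_etale G _ c (etale_pullback_snd A U (l ^ k) hlk c (by
      rw [← Over.w y]
      rintro _ ⟨t, rfl⟩
      exact hNU ⟨_, rfl⟩)) b hb)
  exact ⟨N, hN, j, eN, h1, h2, hNu⟩

end

end Dat

end K630.AbExt
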