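import Groth.Agent.AbSch.K630.Unibr
import Groth.Agent.AbSch.K629.NSLoc
import Groth.Agent.AbSch.K615.FieldNS
import Groth.Agent.AbSch.K595.Chart
import Groth.Agent.AbSch.K448.UnibrDesc
import Groth.Agent.S0415
import Groth.Agent.S9689

/-!
# Extensions of abelian schemes over a geometrically unibranch base

`Dat.exists_ns_unibr`: over a quasi-compact, locally Noetherian, integral, geometrically unibranch scheme every
extension of an abelian scheme by an abelian scheme has an `n`-splitting, `n > 0`.
-/

set_option autoImplicit false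
universe u
open CategoryTheory CategoryTheory.Limits MonoidalCategory CartesianMonoidalCategory MonObj AlgebraicGeometry Opposite

noncomputable section

namespace K630.AbExt

open Groth.Agent.Etdl.H432.Sec K452.HomPts K771.HomEv K629.DvrExt

variable {S : Scheme.{u}} {T A : Over S} [GrpObj T] [IsCommMonObj T] [GrpObj A] [IsCommMonObj A]

theorem Dat.exists_ns_field (k : Type u) [Field k] (v : Spec (CommRingCat.of k) ⟶ S) (D : Dat T A)
    [IsProper T.hom] [Smooth T.hom] [GeometricallyConnected T.hom]
    [IsProper A.hom] [Smooth A.hom] [GeometricallyConnected A.hom] : ∃ n : ℕ, 0 < n ∧ D.NS n (Over.mk v) := by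
  have i1 : IsProper (Red.bc (Over.mk v).hom T).hom := inferInstanceAs (IsProper (pullback.snd T.hom v))
  have i2 : Smooth (Red.bc (Over.mk v).hom T).hom := inferInstanceAs (Smooth (pullback.snd T.hom v))
  have i3 : GeometricallyConnected (Red.bc (Over.mk v).hom T).hom :=
    inferInstanceAs (GeometricallyConnected (pullback.snd T.hom v))
  have i4 : IsProper (Red.bc (Over.mk v).hom A).hom := inferInstanceAs (IsProper (pullback.snd A.hom v))
  have i5 : Smooth (Red.bc (Over.mk v).hom A).hom := inferInstanceAs (Smooth (pullback.snd A.hom v))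
  have i6 : GeometricallyConnected (Red.bc (Over.mk v).hom A).hom :=
    inferInstanceAs (GeometricallyConnected (pullback.snd A.hom v))
  obtain ⟨n, hn, h⟩ := K615.FieldNS.exists_ns (K629.NSLoc.res (Over.mk v) D)
  exact ⟨n, hn, (K629.NSLoc.ns_res_one (Over.mk v) D n).mp h⟩

/-- **Extensions of abelian schemes over a geometrically unibranch base have `n`-splittings.** -/
theorem Dat.exists_ns_unibr [CompactSpace S] [IsLocallyNoetherian S] [AlgebraicGeometry.IsIntegral S]
    (hS : ∀ s : S, CAlg2.IsGeomUnibranch (S.presheaf.stalk s)) (D : Dat T A)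
    [IsProper T.hom] [Smooth T.hom] [GeometricallyConnected T.hom]
    [IsProper A.hom] [Smooth A.hom] [GeometricallyConnected A.hom] : ∃ n : ℕ, 0 < n ∧ D.NS n (𝟙_ (Over S)) := by
  -- the generic point
  let G : Over S := Over.mk (S.fromSpecStalk (genericPoint S))
  have g1 : IsSchemeTheoreticallyDominant G.hom := K234.NrmExt.dom_gp S
  have g2 : QuasiCompact G.hom := by
    have : IsNoetherian (Spec (CommRingCat.of S.functionField)) := inferInstance
    exact (inferInstance : QuasiCompact (S.fromSpecStalk (genericPoint S) : Spec (CommRingCat.of S.functionField) ⟶ S))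
  have g3 : QuasiSeparated G.hom := inferInstanceAs (QuasiSeparated (S.fromSpecStalk (genericPoint S)))
  -- the normalization
  have g4 : FlatMor.IsUnivHomeo (nrm G).hom := Groth.Agent.S9689.result S hS
  obtain ⟨g5, g6, g7⟩ := (Groth.Agent.S0415.result _).mp g4
  have g8 : IsSchemeTheoreticallyDominant (nrm G).hom := by
    have h1 : IsSchemeTheoreticallyDominant ((toNrm G).left ≫ (nrm G).hom) := by
      rw [Over.w]
      exact g1
    exact ⟨le_bot_iff.mp ((Scheme.Hom.le_ker_comp (toNrm G).left (nrm G).hom).trans_eq (Scheme.Hom.ker_eq_bot _))⟩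
  -- the splitting over the generic point
  obtain ⟨n, hn, τ, hτ⟩ := D.exists_ns_field S.functionField (S.fromSpecStalk (genericPoint S))
  -- the chart
  have hT : CompactSpace T.left := by
    have := QuasiCompact.compactSpace_of_compactSpace T.hom
    infer_instance
  obtain ⟨X, p, e, -, hp1, hp2, he⟩ := K595.Chart.exists_chart D
  have hX : Smooth X.hom := by
    rw [← Over.w p]
    infer_instance
  have hTi : GeometricallyIntegral T.hom := K448.SmoothConn.geometricallyIntegral T.hom
  obtain ⟨a, ha⟩ := Dat.exists_diff (G := G) p e hτ he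
  have ht : D.TorSec n τ := Dat.torSec p e hτ he
  obtain ⟨a', ha'⟩ := K234.NrmExt.exists_ext hS G rfl a (Dat.dvrHyp p e hτ ht he ha)
  obtain ⟨a₀, ha₀⟩ := K448.UnibrDesc.exists_desc (nrm G) p a' (Dat.desc_hyp p e ht he ha ha')
  refine ⟨n, hn, Dat.ns_of_desc p e he ha a₀ ?_⟩
  rw [← ha', ← ha₀, ← Category.assoc, whiskerRight_snd]

end K630.AbExt
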